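import Cfsg.Agent.Lib.Mitchell.Ident.Eigen
import Cfsg.Agent.Lib.Mitchell.Free.Setup

/-!
# Commutative subgroups of exponent `n` modulo scalars

* `exists_joint` : they are simultaneously diagonalisable;
* `card_map_le_sq` : at most `n²` elements modulo scalars;
* `card_map_le` : at most `n` if every non-scalar element has three different eigenvalues.
-/

set_option autoImplicit false
set_option linter.unusedSectionVars false

namespace Cfsg.Agent.Mitchell.Ident

open Matrix

universe u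

variable {F : Type u} [Field F] {G : Subgroup (GL (Fin 3) F)}

theorem exists_joint {n : ℕ} (hn : (n : F) ≠ 0) (hsl : G ≤ Cfsg.Geo.specialLinear (Fin 3) F)
    (W : Subgroup ↥G) (hc : ∀ a ∈ W, ∀ b ∈ W, a * b = b * a)
    (hexp : ∀ w ∈ W, (w : GL (Fin 3) F) ^ n ∈ Cfsg.Geo.scalars (Fin 3) F) :
    ∃ Q, ∀ w ∈ W, ∃ d, IsEig (w : GL (Fin 3) F) Q d := by
  classical
  let T : GL (Fin 3) (AlgebraicClosure F) →* Module.End (AlgebraicClosure F) (Fin 3 → AlgebraicClosure F) :=
    (Matrix.toLinAlgEquiv'.toMonoidHom).comp (Units.coeHom _)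
  have hT : ∀ (g : GL (Fin 3) (AlgebraicClosure F)) v, T g v =
      (g : Matrix (Fin 3) (Fin 3) (AlgebraicClosure F)) *ᵥ v := fun g v => rfl
  let f : ↥W → Module.End (AlgebraicClosure F) (Fin 3 → AlgebraicClosure F) :=
    fun w => T (gE F ((w : ↥G) : GL (Fin 3) F))
  have hcomm : ∀ a b, Commute (f a) (f b) := fun a b => by
    have h : ((a : ↥G) : GL (Fin 3) F) * ((b : ↥G) : GL (Fin 3) F) =
        ((b : ↥G) : GL (Fin 3) F) * ((a : ↥G) : GL (Fin 3) F) :=
      congrArg Subtype.val (hc _ a.2 _ b.2)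
    show T _ * T _ = T _ * T _
    rw [← map_mul, ← map_mul, ← map_mul, ← map_mul, h]
  have hdiag : ∀ a, ⨆ μ, (f a).eigenspace μ = ⊤ := fun a => by
    obtain ⟨Q, d, hQ⟩ := exists_isEig hn (hsl (a : ↥G).2) (hexp _ a.2)
    rw [eq_top_iff]
    intro v _
    have hv : v = ∑ i, (((Q⁻¹ : GL (Fin 3) (AlgebraicClosure F)) : Matrix _ _ _) *ᵥ v) i •
        ((Q : Matrix (Fin 3) (Fin 3) (AlgebraicClosure F)).col i) := by
      conv_lhs => rw [← Matrix.one_mulVec v, ← Units.val_one, ← mul_inv_cancel Q, Units.val_mul,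
        ← Matrix.mulVec_mulVec]
      funext k
      simp [Matrix.mulVec, dotProduct, mul_comm]
    rw [hv]
    refine Submodule.sum_mem _ fun i _ => Submodule.smul_mem _ _
      (Submodule.mem_iSup_of_mem (d i : AlgebraicClosure F) ?_)
    rw [Module.End.mem_eigenspace_iff]
    show T _ _ = _
    rw [hT, hQ, Units.val_mul, Units.val_mul, dHom_val, ← Matrix.mulVec_single_one, Matrix.mulVec_mulVec,
      mul_assoc, ← Units.val_mul, inv_mul_cancel, Units.val_one, mul_one, ← Matrix.mulVec_mulVec,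
      Matrix.diagonal_mulVec_single, mul_one, Matrix.mulVec_single_one, Matrix.mulVec_single,
      op_smul_eq_smul]
  have hjoint : ⨆ χ : ↥W → AlgebraicClosure F, ⨅ a, (f a).eigenspace (χ a) = ⊤ := by
    have hss : ∀ a, (f a).IsFinitelySemisimple := fun a => by
      refine Module.End.IsSemisimple.isFinitelySemisimple ?_
      obtain ⟨m, hm, hgm⟩ := exists_pow_one hn (hsl (a : ↥G).2) (hexp _ a.2)
      exact Module.End.isSemisimple_of_squarefree_aeval_eq_zero
        (Polynomial.separable_X_pow_sub_C (1 : AlgebraicClosure F) hm one_ne_zero).squarefree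
        (by
          rw [Polynomial.C_1, map_sub, map_pow, Polynomial.aeval_X, map_one, sub_eq_zero]
          show (T _) ^ m = 1
          rw [← map_pow, ← map_pow, hgm, map_one, map_one])
    have h := Module.End.iSup_iInf_maxGenEigenspace_eq_top_of_iSup_maxGenEigenspace_eq_top_of_commute
      f (fun a b _ => hcomm a b) fun a => by
        simp_rw [(hss a).maxGenEigenspace_eq_eigenspace]
        exact hdiag a
    simp_rw [fun a => (hss a).maxGenEigenspace_eq_eigenspace] at h
    exact h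
  let S : Set (Fin 3 → AlgebraicClosure F) :=
    {v | ∀ a, ∃ μ : AlgebraicClosure F, f a v = μ • v}
  have hspan : Submodule.span (AlgebraicClosure F) S = ⊤ := by
    rw [eq_top_iff, ← hjoint]
    refine iSup_le fun χ v hv => Submodule.subset_span fun a => ⟨χ a, ?_⟩
    exact Module.End.mem_eigenspace_iff.1 ((Submodule.mem_iInf _).1 hv a)
  obtain ⟨b, hbS, hbspan, hli⟩ := exists_linearIndependent (AlgebraicClosure F) S
  let B := Module.Basis.mk hli (by rw [Subtype.range_coe, hbspan, hspan])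
  haveI : Finite b := Module.Finite.finite_basis B
  haveI : Fintype b := Fintype.ofFinite b
  have hcard : Fintype.card b = 3 := by
    rw [← Module.finrank_eq_card_basis B, Module.finrank_fintype_fun_eq_card, Fintype.card_fin]
  let C := B.reindex (Fintype.equivFinOfCardEq hcard)
  have hC : ∀ i, C i ∈ S := fun i => by
    have h : C i = ((Fintype.equivFinOfCardEq hcard).symm i : b).1 := by simp [C, B]
    rw [h]; exact hbS ((Fintype.equivFinOfCardEq hcard).symm i).2
  let Qm : Matrix (Fin 3) (Fin 3) (AlgebraicClosure F) :=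
    (Pi.basisFun (AlgebraicClosure F) (Fin 3)).toMatrix C
  haveI := (Pi.basisFun (AlgebraicClosure F) (Fin 3)).invertibleToMatrix C
  obtain ⟨Q, hQ⟩ := isUnit_of_invertible Qm
  refine ⟨Q, fun w hw => ?_⟩
  choose μ hμ using fun i => hC i ⟨w, hw⟩
  have hμ0 : ∀ i, μ i ≠ 0 := fun i h0 => by
    have h1 := hμ i
    rw [h0, zero_smul] at h1
    refine C.ne_zero i ?_
    have h1' : (gE F (w : GL (Fin 3) F) : Matrix (Fin 3) (Fin 3) (AlgebraicClosure F)) *ᵥ C i = 0 := h1
    rw [← Matrix.one_mulVec (C i), ← Units.val_one, ← inv_mul_cancel (gE F (w : GL (Fin 3) F)),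
      Units.val_mul, ← Matrix.mulVec_mulVec, h1', Matrix.mulVec_zero]
  refine ⟨fun i => Units.mk0 (μ i) (hμ0 i), ?_⟩
  show _ = _
  rw [eq_mul_inv_iff_mul_eq]
  apply Units.ext
  rw [Units.val_mul, Units.val_mul, dHom_val, hQ]
  ext k i
  rw [Matrix.mul_diagonal]
  show ((gE F (w : GL (Fin 3) F) : Matrix (Fin 3) (Fin 3) (AlgebraicClosure F)) *ᵥ C i) k = C i k * μ i
  rw [show (gE F (w : GL (Fin 3) F) : Matrix (Fin 3) (Fin 3) (AlgebraicClosure F)) *ᵥ C i = μ i • C i
    from hμ i, Pi.smul_apply, smul_eq_mul, mul_comm]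

theorem IsEig.div {g h : GL (Fin 3) F} {Q : GL (Fin 3) (AlgebraicClosure F)}
    {d e : Fin 3 → (AlgebraicClosure F)ˣ} (hg : IsEig g Q d) (hh : IsEig h Q e) :
    IsEig (g * h⁻¹) Q (d * e⁻¹) := by
  have hg' : gE F g = Q * dHom d * Q⁻¹ := hg
  have hh' : gE F h = Q * dHom e * Q⁻¹ := hh
  show _ = _
  rw [map_mul, map_inv, hg', hh', map_mul, map_inv]
  group

theorem card_roots_le {n : ℕ} (hn : 0 < n) :
    Nat.card (rootsOfUnity n (AlgebraicClosure F)) ≤ n := by
  haveI : NeZero n := ⟨hn.ne'⟩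
  exact card_rootsOfUnity _ n

theorem card_map_le_aux {n : ℕ} (hn : (n : F) ≠ 0) (hsl : G ≤ Cfsg.Geo.specialLinear (Fin 3) F)
    (W : Subgroup ↥G) (hc : ∀ a ∈ W, ∀ b ∈ W, a * b = b * a)
    (hexp : ∀ w ∈ W, (w : GL (Fin 3) F) ^ n ∈ Cfsg.Geo.scalars (Fin 3) F) :
    Nat.card (W.map (pr G)) ≤ n ^ 2 ∧
      ((∀ w ∈ W, (w : GL (Fin 3) F) ∉ Cfsg.Geo.scalars (Fin 3) F →
        ∀ Q d, IsEig (w : GL (Fin 3) F) Q d → Function.Injective d) → Nat.card (W.map (pr G)) ≤ n) := by
  classical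
  have hn0 : 0 < n := Nat.pos_of_ne_zero fun h => hn (by rw [h, Nat.cast_zero])
  haveI : NeZero n := ⟨hn0.ne'⟩
  obtain ⟨Q, hQ⟩ := exists_joint hn hsl W hc hexp
  choose w hw hwx using fun x : W.map (pr G) => Subgroup.mem_map.1 x.2
  choose d hd using fun x => hQ (w x) (hw x)
  have hpow : ∀ x i j, (d x i / d x j) ^ n = 1 := fun x i j => by
    have h := ((hd x).scalar_iff n).1 (by rw [_root_.zpow_natCast]; exact hexp _ (hw x)) i j
    rw [_root_.zpow_natCast, _root_.zpow_natCast] at h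
    rw [div_pow, div_eq_one]; exact h
  have key : ∀ x y, (∀ i j, (d x * (d y)⁻¹) i = (d x * (d y)⁻¹) j) → x = y := fun x y h => by
    apply Subtype.ext
    rw [← hwx x, ← hwx y, pr_eq]
    have := (((hd x).div (hd y)).scalar_iff 1).2 (by simpa [zpow_one] using h)
    rwa [zpow_one] at this
  constructor
  · let φ : W.map (pr G) → rootsOfUnity n (AlgebraicClosure F) × rootsOfUnity n (AlgebraicClosure F) :=
      fun x => (⟨d x 1 / d x 0, (mem_rootsOfUnity _ _).2 (hpow x 1 0)⟩,
        ⟨d x 2 / d x 0, (mem_rootsOfUnity _ _).2 (hpow x 2 0)⟩)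
    refine (Nat.card_le_card_of_injective φ fun x y h => key x y ?_).trans ?_
    · obtain ⟨h1, h2⟩ := Prod.ext_iff.1 h
      have e1 : d x 1 / d x 0 = d y 1 / d y 0 := congrArg Subtype.val h1
      have e2 : d x 2 / d x 0 = d y 2 / d y 0 := congrArg Subtype.val h2
      rw [div_eq_div_iff_mul_eq_mul] at e1 e2
      have k1 : (d x * (d y)⁻¹) 1 = (d x * (d y)⁻¹) 0 := by
        simp only [Pi.mul_apply, Pi.inv_apply]
        rw [mul_inv_eq_iff_eq_mul, mul_assoc, mul_comm (d y 0)⁻¹, ← mul_assoc,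
          eq_mul_inv_iff_mul_eq, e1, mul_comm]
      have k2 : (d x * (d y)⁻¹) 2 = (d x * (d y)⁻¹) 0 := by
        simp only [Pi.mul_apply, Pi.inv_apply]
        rw [mul_inv_eq_iff_eq_mul, mul_assoc, mul_comm (d y 0)⁻¹, ← mul_assoc,
          eq_mul_inv_iff_mul_eq, e2, mul_comm]
      have : ∀ i, (d x * (d y)⁻¹) i = (d x * (d y)⁻¹) 0 := fun i => by
        fin_cases i
        · rfl
        · exact k1
        · exact k2
      intro i j
      rw [this i, this j]
    · rw [Nat.card_prod, pow_two]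
      exact Nat.mul_le_mul (card_roots_le hn0) (card_roots_le hn0)
  · intro hreg
    let φ : W.map (pr G) → rootsOfUnity n (AlgebraicClosure F) :=
      fun x => ⟨d x 1 / d x 0, (mem_rootsOfUnity _ _).2 (hpow x 1 0)⟩
    refine (Nat.card_le_card_of_injective φ fun x y h => ?_).trans (card_roots_le hn0)
    have e1 : d x 1 / d x 0 = d y 1 / d y 0 := congrArg Subtype.val h
    rw [div_eq_div_iff_mul_eq_mul] at e1
    apply Subtype.ext
    rw [← hwx x, ← hwx y, pr_eq]
    by_contra hne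
    have h01 : (d x * (d y)⁻¹) 1 = (d x * (d y)⁻¹) 0 := by
      simp only [Pi.mul_apply, Pi.inv_apply]
      rw [mul_inv_eq_iff_eq_mul, mul_assoc, mul_comm (d y 0)⁻¹, ← mul_assoc,
        eq_mul_inv_iff_mul_eq, e1, mul_comm]
    have := hreg (w x * (w y)⁻¹) (mul_mem (hw x) (inv_mem (hw y))) (by simpa using hne) Q
      (d x * (d y)⁻¹) (by simpa using (hd x).div (hd y)) h01
    exact absurd this (by decide)

end Cfsg.Agent.Mitchell.Ident
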