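import Cfsg.Agent.Lib.Mitchell.Ident.Abelian

/-!
# Elements of a simple subgroup modulo scalars and their eigenvalue ratios

* `eig_of` : the eigenvalues of a lift of an element of order `n`;
* `sq_or_cube`, `real_frob`, `seven`, `real_conj` : consequences in group language;
* `comm_of_coprime`, `scalar_cube` : commutators of lifts.
-/

set_option autoImplicit false
set_option linter.unusedSectionVars false

namespace Cfsg.Agent.Mitchell.Ident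

open Cfsg.Agent.Transvect

universe u

variable {F : Type u} [Field F] {G : Subgroup (GL (Fin 3) F)}

theorem pr_zpow_eq_one {g : ↥G} {m : ℤ} :
    pr G g ^ m = 1 ↔ (g : GL (Fin 3) F) ^ m ∈ Cfsg.Geo.scalars (Fin 3) F := by
  rw [← map_zpow, pr_eq_one, SubgroupClass.coe_zpow]

theorem scalar_rel {a g : ↥G} {k : ℤ} (h : pr G a * pr G g * (pr G a)⁻¹ = pr G g ^ k) :
    (a : GL (Fin 3) F) * g * (a : GL (Fin 3) F)⁻¹ * ((g : GL (Fin 3) F) ^ k)⁻¹ ∈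
      Cfsg.Geo.scalars (Fin 3) F := by
  rw [← map_inv, ← map_mul, ← map_mul, ← map_zpow, pr_eq] at h
  simpa using h

theorem eig_of [Fintype F] (hsl : G ≤ Cfsg.Geo.specialLinear (Fin 3) F) {n : ℕ} (hn : (n : F) ≠ 0) {g : ↥G}
    (hord : orderOf (pr G g) = n) :
    ∃ d : Fin 3 → (AlgebraicClosure F)ˣ, Per n d ∧
      (∀ (h : GL (Fin 3) F) (k : ℤ),
        h * g * h⁻¹ * ((g : GL (Fin 3) F) ^ k)⁻¹ ∈ Cfsg.Geo.scalars (Fin 3) F → ∃ σ, Rel k σ d) ∧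
      ∃ σ, Rel (Fintype.card F : ℤ) σ d := by
  have hgn : (g : GL (Fin 3) F) ^ n ∈ Cfsg.Geo.scalars (Fin 3) F := by
    have h1 : pr G g ^ (n : ℤ) = 1 := by
      rw [_root_.zpow_natCast, ← hord, pow_orderOf_eq_one]
    simpa using pr_zpow_eq_one.1 h1
  obtain ⟨Q, d, hd⟩ := exists_isEig hn (hsl g.2) hgn
  refine ⟨d, fun m => ?_, fun h k hk => hd.rel hk, hd.frob⟩
  rw [← hd.scalar_iff, ← pr_zpow_eq_one, ← orderOf_dvd_iff_zpow_eq_one, hord]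

theorem sq_or_cube [Fintype F] (hsl : G ≤ Cfsg.Geo.specialLinear (Fin 3) F) {x w : Sq G} {n : ℕ} (hn : (n : F) ≠ 0)
    (hx : orderOf x = n) {k : ℤ} (h : w * x * w⁻¹ = x ^ k) :
    (n : ℤ) ∣ k * k - 1 ∨ (n : ℤ) ∣ k * k * k - 1 := by
  obtain ⟨g, rfl⟩ := QuotientGroup.mk'_surjective _ x
  obtain ⟨a, rfl⟩ := QuotientGroup.mk'_surjective _ w
  obtain ⟨d, hd, hrel, -⟩ := eig_of hsl hn hx
  obtain ⟨σ, hσ⟩ := hrel _ k (scalar_rel h)
  exact hσ.sq_or_cube hd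

theorem real_frob [Fintype F] (hsl : G ≤ Cfsg.Geo.specialLinear (Fin 3) F) {x w : Sq G} {n : ℕ} (hn : (n : F) ≠ 0)
    (hx : orderOf x = n) (h3 : 3 ≤ n) (h : w * x * w⁻¹ = x⁻¹) :
    (n : ℤ) ∣ (Fintype.card F : ℤ) - 1 ∨ (n : ℤ) ∣ (Fintype.card F : ℤ) + 1 := by
  obtain ⟨g, rfl⟩ := QuotientGroup.mk'_surjective _ x
  obtain ⟨a, rfl⟩ := QuotientGroup.mk'_surjective _ w
  obtain ⟨d, hd, hrel, τ, hτ⟩ := eig_of hsl hn hx
  obtain ⟨σ, hσ⟩ := hrel _ (-1) (scalar_rel (by rw [_root_.zpow_neg_one]; exact h))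
  exact hσ.pm_one hd h3 hτ

theorem seven [Fintype F] (hsl : G ≤ Cfsg.Geo.specialLinear (Fin 3) F) {x w : Sq G} (hn : (7 : F) ≠ 0)
    (hx : orderOf x = 7) (h : w * x * w⁻¹ = x ^ (2 : ℤ)) :
    (7 : ℤ) ∣ (Fintype.card F : ℤ) * Fintype.card F * Fintype.card F - 1 := by
  obtain ⟨g, rfl⟩ := QuotientGroup.mk'_surjective _ x
  obtain ⟨a, rfl⟩ := QuotientGroup.mk'_surjective _ w
  obtain ⟨d, hd, hrel, τ, hτ⟩ := eig_of hsl (n := 7) (by exact_mod_cast hn) hx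
  obtain ⟨σ, hσ⟩ := hrel _ 2 (scalar_rel h)
  exact hσ.cube_seven hd hτ

/-- A real element is only mapped to conjugates of itself or of its inverse. -/
theorem real_conj [Fintype F] (hsl : G ≤ Cfsg.Geo.specialLinear (Fin 3) F) {g a : ↥G} {w : Sq G} {n : ℕ} (hn : (n : F) ≠ 0)
    (hx : orderOf (pr G g) = n) (h3 : 3 ≤ n) (hw : w * pr G g * w⁻¹ = (pr G g)⁻¹)
    {h : GL (Fin 3) F} {k : ℤ}
    (hk : h * g * h⁻¹ * ((a : GL (Fin 3) F) * (g : GL (Fin 3) F) ^ k * (a : GL (Fin 3) F)⁻¹)⁻¹ ∈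
      Cfsg.Geo.scalars (Fin 3) F) :
    (n : ℤ) ∣ k - 1 ∨ (n : ℤ) ∣ k + 1 := by
  obtain ⟨b, rfl⟩ := QuotientGroup.mk'_surjective _ w
  obtain ⟨d, hd, hrel, -⟩ := eig_of hsl hn hx
  obtain ⟨τ, hτ⟩ := hrel _ (-1) (scalar_rel (by rw [_root_.zpow_neg_one]; exact hw))
  have hc := scalar_central hk (a : GL (Fin 3) F)
  obtain ⟨σ, hσ⟩ := hrel ((a : GL (Fin 3) F)⁻¹ * h) k (by
    have he : (a : GL (Fin 3) F)⁻¹ * h * g * ((a : GL (Fin 3) F)⁻¹ * h)⁻¹ * ((g : GL (Fin 3) F) ^ k)⁻¹ =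
        (a : GL (Fin 3) F)⁻¹ * (h * g * h⁻¹ *
          ((a : GL (Fin 3) F) * (g : GL (Fin 3) F) ^ k * (a : GL (Fin 3) F)⁻¹)⁻¹ * (a : GL (Fin 3) F)) := by
      group
    rw [he, hc, inv_mul_cancel_left]
    exact hk)
  exact hτ.pm_one hd h3 hσ

theorem scalar_cube {s : GL (Fin 3) F} (hs : s ∈ Cfsg.Geo.scalars (Fin 3) F)
    (hsl : s ∈ Cfsg.Geo.specialLinear (Fin 3) F) : s ^ 3 = 1 := by
  obtain ⟨c, -, hc, -⟩ := app_of_mem_scalars hs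
  have h := mem_sl_iff.1 hsl
  rw [det_scalar hc] at h
  exact Units.ext (by rw [Units.val_pow_eq_pow_val, hc, smul_pow, h, one_pow, one_smul]; rfl)

/-- The commutator of lifts of commuting elements. -/
theorem commutator_facts (hsl : G ≤ Cfsg.Geo.specialLinear (Fin 3) F) {a b : ↥G} (h : pr G a * pr G b = pr G b * pr G a) :
    ((a * b * a⁻¹ * b⁻¹ : ↥G) : GL (Fin 3) F) ∈ Cfsg.Geo.scalars (Fin 3) F ∧
      ((a * b * a⁻¹ * b⁻¹ : ↥G) : GL (Fin 3) F) ^ 3 = 1 := by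
  have hs := pr_eq_one.1 (show pr G (a * b * a⁻¹ * b⁻¹) = 1 by
    rw [map_mul, map_mul, map_mul, map_inv, map_inv, h]; group)
  exact ⟨hs, scalar_cube hs (hsl (a * b * a⁻¹ * b⁻¹).2)⟩

theorem comm_of_coprime (hsl : G ≤ Cfsg.Geo.specialLinear (Fin 3) F) {n : ℕ} (hn3 : Nat.Coprime n 3) {a b : ↥G}
    (h : pr G a * pr G b = pr G b * pr G a)
    (hb : (b : GL (Fin 3) F) ^ n ∈ Cfsg.Geo.scalars (Fin 3) F) : a * b = b * a := by
  obtain ⟨hs, h3⟩ := commutator_facts hsl h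
  obtain ⟨c, hcdef⟩ : ∃ c : GL (Fin 3) F, c = ((a * b * a⁻¹ * b⁻¹ : ↥G) : GL (Fin 3) F) := ⟨_, rfl⟩
  rw [← hcdef] at hs h3
  have e : (a : GL (Fin 3) F) * b * (a : GL (Fin 3) F)⁻¹ = c * b := by
    rw [hcdef, Subgroup.coe_mul, Subgroup.coe_mul, Subgroup.coe_mul, Subgroup.coe_inv,
      Subgroup.coe_inv, inv_mul_cancel_right]
  have e1 : (a : GL (Fin 3) F) * (b : GL (Fin 3) F) ^ n * (a : GL (Fin 3) F)⁻¹ =
      (b : GL (Fin 3) F) ^ n := by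
    rw [← scalar_central hb, mul_inv_cancel_right]
  rw [← conj_pow, e, (show Commute c (b : GL (Fin 3) F) from scalar_central hs _).mul_pow] at e1
  have hc1 : c = 1 := orderOf_eq_one_iff.1 (Nat.eq_one_of_dvd_coprimes hn3
    (orderOf_dvd_of_pow_eq_one (mul_eq_right.1 e1)) (orderOf_dvd_of_pow_eq_one h3))
  rw [hc1, one_mul, mul_inv_eq_iff_eq_mul] at e
  exact Subtype.ext e

end Cfsg.Agent.Mitchell.Ident
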