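import Cfsg.Agent.Lib.Mitchell.Free.Levi
import Cfsg.Agent.Lib.Mitchell.NoElation.Basic

/-!
# Eigenvalue ratios of semisimple elements of `SL₃`

`d : Fin 3 → A` stands for the three eigenvalues (in the units of an algebraic closure).

* `Per n d` : the ratios of the eigenvalues have order `n`;
* `Rel k σ d` : `d i = μ d(σ i)^k`; produced by `h g h⁻¹ ≡ g^k` and by the Frobenius map;
* `Rel.sq_or_cube`, `Rel.pm_one`, `Rel.cube_seven` : the arithmetic consequences;
* `exists_eig` : the bridge from a subgroup of `SL₃(F)`.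
-/

set_option autoImplicit false
set_option linter.unusedSectionVars false

namespace Cfsg.Agent.Mitchell.Ident

open Matrix

section Comb

variable {A : Type*} [CommGroup A]

/-- The ratios of the entries have order exactly `n`. -/
def Per (n : ℕ) (d : Fin 3 → A) : Prop := ∀ m : ℤ, (∀ i j, d i ^ m = d j ^ m) ↔ (n : ℤ) ∣ m

/-- The entries are permuted by `x ↦ μ x^k`. -/
def Rel (k : ℤ) (σ : Equiv.Perm (Fin 3)) (d : Fin 3 → A) : Prop :=
  ∃ μ : A, ∀ i, d i = μ * d (σ i) ^ k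

variable {n : ℕ} {d : Fin 3 → A} {a b k : ℤ} {σ τ : Equiv.Perm (Fin 3)}

theorem Rel.congr (hd : Per n d) (h : (n : ℤ) ∣ a - b) : Rel a σ d → Rel b σ d := by
  rintro ⟨μ, hμ⟩
  refine ⟨μ * d 0 ^ (a - b), fun i => ?_⟩
  rw [hμ i, mul_assoc, (hd _).2 h 0 (σ i), ← _root_.zpow_add, sub_add_cancel]

theorem Rel.comp (ha : Rel a σ d) (hb : Rel b τ d) : Rel (a * b) (τ * σ) d := by
  obtain ⟨μ, hμ⟩ := ha
  obtain ⟨ν, hν⟩ := hb
  refine ⟨μ * ν ^ a, fun i => ?_⟩
  rw [hμ i, hν (σ i), mul_zpow, mul_comm a b, _root_.zpow_mul, mul_assoc]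
  rfl

theorem Rel.dvd_of_one (hd : Per n d) (h : Rel a (1 : Equiv.Perm (Fin 3)) d) : (n : ℤ) ∣ a - 1 := by
  obtain ⟨μ, hμ⟩ := h
  refine (hd _).1 fun i j => ?_
  have key : ∀ i, d i ^ (a - 1) = μ⁻¹ := fun i => by
    have h1 : d i = μ * d i ^ a := hμ i
    rw [_root_.zpow_sub_one, eq_inv_iff_mul_eq_one, mul_comm, ← mul_assoc, ← h1, mul_inv_cancel]
  rw [key i, key j]

theorem perm_three (σ : Equiv.Perm (Fin 3)) : σ * σ = 1 ∨ σ * σ * σ = 1 := by
  revert σ; decide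

theorem Rel.sq_or_cube (hd : Per n d) (h : Rel k σ d) :
    (n : ℤ) ∣ k * k - 1 ∨ (n : ℤ) ∣ k * k * k - 1 := by
  rcases perm_three σ with e | e
  · exact Or.inl (Rel.dvd_of_one hd (e ▸ h.comp h))
  · refine Or.inr (Rel.dvd_of_one hd ?_)
    have h3 := h.comp (h.comp h)
    rw [e, ← mul_assoc k k k] at h3
    exact h3

/-- Exponents of the three ratios of a real element. -/
def ex : Fin 3 → ℤ := ![0, 1, -1]

theorem exists_swap (σ : Equiv.Perm (Fin 3)) :
    σ = 1 ∨ (∀ t, σ t ≠ t) ∨ ∃ π : Equiv.Perm (Fin 3), σ (π 0) = π 0 ∧ σ (π 1) = π 2 := by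
  revert σ; decide

theorem ex_pair (σ : Equiv.Perm (Fin 3)) :
    ∃ t t', (ex t - ex t' = 1 ∨ ex t - ex t' = -1) ∧
      (ex (σ t) - ex (σ t') = 1 ∨ ex (σ t) - ex (σ t') = -1) := by
  revert σ; decide

theorem Rel.exists_real (hd : Per n d) (hn : 3 ≤ n) (h : Rel (-1) σ d) :
    ∃ (π : Equiv.Perm (Fin 3)) (e ν : A), (∀ t, d (π t) = e * ν ^ ex t) ∧
      ∀ m : ℤ, ν ^ m = 1 → (n : ℤ) ∣ m := by
  rcases exists_swap σ with rfl | h3 | ⟨π, h0, h1⟩
  · have := Int.le_of_dvd (by norm_num) (dvd_neg.2 (Rel.dvd_of_one hd h))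
    omega
  · exfalso
    obtain ⟨μ, hμ⟩ := h
    have key : ∀ i, d i * d (σ i) = μ := fun i => by
      rw [hμ i, mul_assoc, _root_.zpow_neg_one, inv_mul_cancel, mul_one]
    have hσ : ∀ i, σ (σ i) ≠ i ∧ σ (σ (σ i)) = i := by
      have : ∀ σ : Equiv.Perm (Fin 3), (∀ t, σ t ≠ t) → ∀ i, σ (σ i) ≠ i ∧ σ (σ (σ i)) = i := by decide
      exact this σ h3
    have heq : ∀ i, d i = d (σ (σ i)) := fun i => by
      have e1 := key i
      have e2 := key (σ i)
      rw [← e2, mul_comm] at e1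
      exact mul_left_cancel e1
    have h4 := (hd 1).1 fun i j => by
      have hall : ∀ σ : Equiv.Perm (Fin 3), (∀ t, σ t ≠ t) → ∀ i j,
          j = i ∨ j = σ (σ i) ∨ j = σ (σ (σ (σ i))) := by decide
      rcases hall σ h3 i j with rfl | rfl | rfl
      · rfl
      · rw [← heq i]
      · rw [← heq (σ (σ i)), ← heq i]
    have := Int.le_of_dvd one_pos h4
    omega
  · obtain ⟨μ, hμ⟩ := h
    refine ⟨π, d (π 0), d (π 1) / d (π 0), fun t => ?_, fun m hm => ?_⟩
    · fin_cases t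
      · simp [ex]
      · simp [ex]
      · have e0 := hμ (π 0)
        have e1 := hμ (π 1)
        rw [h0, _root_.zpow_neg_one, eq_mul_inv_iff_mul_eq] at e0
        rw [h1, _root_.zpow_neg_one, eq_mul_inv_iff_mul_eq, ← e0] at e1
        show d (π 2) = _
        simp only [ex, Fin.reduceFinMk, Matrix.cons_val, Matrix.cons_val_two, Matrix.tail_cons,
          Matrix.head_cons, _root_.zpow_neg_one, inv_div]
        rw [mul_div_assoc', eq_div_iff_mul_eq', mul_comm]
        exact e1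
    · refine (hd m).1 ?_
      have e0 := hμ (π 0)
      have e1 := hμ (π 1)
      rw [h0, _root_.zpow_neg_one, eq_mul_inv_iff_mul_eq] at e0
      rw [h1, _root_.zpow_neg_one, eq_mul_inv_iff_mul_eq, ← e0] at e1
      rw [div_zpow, div_eq_one] at hm
      have hm2 : d (π 2) ^ m = d (π 0) ^ m := by
        have := congrArg (· ^ m) e1
        simp only [mul_zpow, hm] at this
        exact mul_left_cancel this
      have key : ∀ t, d (π t) ^ m = d (π 0) ^ m := by
        intro t; fin_cases t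
        · rfl
        · exact hm
        · exact hm2
      intro i j
      rw [← π.apply_symm_apply i, ← π.apply_symm_apply j, key (π.symm i), key (π.symm j)]

theorem Rel.injective (hd : Per n d) (hn : 3 ≤ n) (h : Rel (-1) σ d) : Function.Injective d := by
  obtain ⟨π, e, ν, hν, hord⟩ := h.exists_real hd hn
  intro i j hij
  rw [← π.apply_symm_apply i, ← π.apply_symm_apply j, hν, hν, mul_left_cancel_iff] at hij
  by_contra hne
  have h0 : ν ^ (ex (π.symm i) - ex (π.symm j)) = 1 := by rw [_root_.zpow_sub, hij, mul_inv_cancel]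
  have h1 := hord _ h0
  have hne' : π.symm i ≠ π.symm j := fun h => hne (π.symm.injective h)
  revert h1 hne'
  generalize π.symm i = s
  generalize π.symm j = t
  intro h1 hst
  have hb : ∀ s t : Fin 3, s ≠ t → ex s - ex t ≠ 0 ∧ -2 ≤ ex s - ex t ∧ ex s - ex t ≤ 2 := by decide
  obtain ⟨b1, b2, b3⟩ := hb s t hst
  obtain ⟨c, hc⟩ := h1
  rcases lt_trichotomy c 0 with hc' | hc' | hc'
  · nlinarith
  · rw [hc', mul_zero] at hc; exact b1 hc
  · nlinarith

theorem Rel.pm_one (hd : Per n d) (hn : 3 ≤ n) (hinv : Rel (-1) τ d) (h : Rel k σ d) :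
    (n : ℤ) ∣ k - 1 ∨ (n : ℤ) ∣ k + 1 := by
  obtain ⟨π, e, ν, hν, hord⟩ := hinv.exists_real hd hn
  obtain ⟨μ, hμ⟩ := h
  obtain ⟨t, t', ht, ht'⟩ := ex_pair (π⁻¹ * σ * π)
  have key : ∀ t, ν ^ (ex t - ex ((π⁻¹ * σ * π) t) * k) = μ * e ^ k * e⁻¹ := fun t => by
    have h1 := hμ (π t)
    rw [← π.apply_symm_apply (σ (π t)), hν, hν, mul_zpow, ← _root_.zpow_mul] at h1
    rw [_root_.zpow_sub, Equiv.Perm.mul_apply, Equiv.Perm.mul_apply, eq_mul_inv_iff_mul_eq, mul_assoc,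
      mul_comm (_⁻¹) e, ← mul_assoc, mul_comm (ν ^ ex t) e, h1]
    show μ * (e ^ k * ν ^ (ex (π.symm (σ (π t))) * k)) * (ν ^ (ex (π.symm (σ (π t))) * k))⁻¹ = _
    rw [← mul_assoc, mul_inv_cancel_right]
  have h2 := hord (ex t - ex ((π⁻¹ * σ * π) t) * k - (ex t' - ex ((π⁻¹ * σ * π) t') * k))
    (by rw [_root_.zpow_sub, key, key, mul_inv_cancel])
  generalize ex t = x, ex t' = x', ex ((π⁻¹ * σ * π) t) = y, ex ((π⁻¹ * σ * π) t') = y' at *
  have e' : x - y * k - (x' - y' * k) = (x - x') - (y - y') * k := by ring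
  rw [e'] at h2
  obtain ⟨c, hc⟩ := h2
  rcases ht with h3 | h3 <;> rcases ht' with h4 | h4 <;> rw [h3, h4] at hc
  · exact Or.inl ⟨-c, by linear_combination -hc⟩
  · exact Or.inr ⟨c, by linear_combination hc⟩
  · exact Or.inr ⟨-c, by linear_combination -hc⟩
  · exact Or.inl ⟨c, by linear_combination hc⟩

theorem Rel.cube_seven {q : ℤ} (hd : Per 7 d) (h2 : Rel 2 σ d) (hq : Rel q τ d) :
    (7 : ℤ) ∣ q * q * q - 1 := by
  rcases hq.sq_or_cube hd with h | h
  · have h' : (7 : ℤ) ∣ (q - 1) * (q + 1) := by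
      rw [show (q - 1) * (q + 1) = q * q - 1 by linear_combination]
      exact_mod_cast h
    rcases (Int.prime_iff_natAbs_prime.2 (by norm_num : Nat.Prime (7 : ℤ).natAbs)).dvd_mul.1 h' with
      h1 | h1
    · exact dvd_trans h1 ⟨q * q + q + 1, by ring⟩
    · have hinv : Rel (-1) τ d := hq.congr hd (by simpa using h1)
      rcases hinv.pm_one hd (by norm_num) h2 with h | h <;> norm_num at h
  · exact_mod_cast h

end Comb

section Bridge

variable {F : Type*} [Field F]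

variable (F) in
/-- The inclusion into `GL₃` of an algebraic closure. -/
noncomputable abbrev gE : GL (Fin 3) F →* GL (Fin 3) (AlgebraicClosure F) :=
  Matrix.GeneralLinearGroup.map (algebraMap F (AlgebraicClosure F))

/-- Diagonal matrices. -/
def dHom {E : Type*} [Field E] : (Fin 3 → Eˣ) →* GL (Fin 3) E :=
  ((Units.map (Matrix.diagonalRingHom (Fin 3) E).toMonoidHom).comp
    (MulEquiv.piUnits (M := fun _ : Fin 3 => E)).symm.toMonoidHom)

theorem dHom_val {E : Type*} [Field E] (d : Fin 3 → Eˣ) :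
    (dHom d : Matrix (Fin 3) (Fin 3) E) = diagonal fun i => (d i : E) := rfl

theorem exists_perm_of_similar {E : Type*} [Field E] {X : GL (Fin 3) E} {d d' : Fin 3 → Eˣ}
    (h : X * dHom d = dHom d' * X) : ∃ σ : Equiv.Perm (Fin 3), ∀ i, d i = d' (σ i) := by
  have hdet : (X : Matrix (Fin 3) (Fin 3) E).det ≠ 0 := (Matrix.isUnits_det_units X).ne_zero
  rw [Matrix.det_apply] at hdet
  obtain ⟨σ, -, hσ⟩ := Finset.exists_ne_zero_of_sum_ne_zero hdet
  refine ⟨σ, fun i => Units.ext ?_⟩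
  have hi : (X : Matrix (Fin 3) (Fin 3) E) (σ i) i ≠ 0 := fun h0 =>
    hσ (by convert smul_zero (Equiv.Perm.sign σ); exact Finset.prod_eq_zero (Finset.mem_univ i) h0)
  have h1 := congrArg (fun g : GL (Fin 3) E => (g : Matrix (Fin 3) (Fin 3) E) (σ i) i) h
  simp only [Units.val_mul, dHom_val, Matrix.mul_diagonal, Matrix.diagonal_mul] at h1
  exact mul_left_cancel₀ hi (h1.trans (mul_comm _ _))

theorem gE_scalar {s : GL (Fin 3) F} (hs : s ∈ Cfsg.Geo.scalars (Fin 3) F) :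
    ∃ μ : (AlgebraicClosure F)ˣ, gE F s = dHom fun _ => μ := by
  obtain ⟨c, hc⟩ := (Cfsg.Geo.mem_scalars_iff s).1 hs
  refine ⟨Units.map (algebraMap F (AlgebraicClosure F)).toMonoidHom c, Units.ext ?_⟩
  rw [dHom_val]
  show (s : Matrix (Fin 3) (Fin 3) F).map (algebraMap F (AlgebraicClosure F)) = _
  rw [hc]
  ext i j
  by_cases hij : i = j <;> simp [hij]

theorem dHom_const_comm {E : Type*} [Field E] (μ : Eˣ) (X : GL (Fin 3) E) :
    X * dHom (fun _ => μ) = dHom (fun _ => μ) * X := by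
  apply Units.ext
  simp only [Units.val_mul, dHom_val]
  ext i j
  simp [Matrix.mul_diagonal, Matrix.diagonal_mul, mul_comm]

/-- The eigenvalues of `g`, in the coordinates `Q`. -/
def IsEig (g : GL (Fin 3) F) (Q : GL (Fin 3) (AlgebraicClosure F))
    (d : Fin 3 → (AlgebraicClosure F)ˣ) : Prop :=
  gE F g = Q * dHom d * Q⁻¹

theorem IsEig.zpow {g : GL (Fin 3) F} {Q : GL (Fin 3) (AlgebraicClosure F)}
    {d : Fin 3 → (AlgebraicClosure F)ˣ} (h : IsEig g Q d) (m : ℤ) :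
    gE F (g ^ m) = Q * dHom (d ^ m) * Q⁻¹ := by
  have h' : gE F g = Q * dHom d * Q⁻¹ := h
  rw [map_zpow, h', conj_zpow, map_zpow]

theorem IsEig.scalar_iff {g : GL (Fin 3) F} {Q : GL (Fin 3) (AlgebraicClosure F)}
    {d : Fin 3 → (AlgebraicClosure F)ˣ} (h : IsEig g Q d) (m : ℤ) :
    g ^ m ∈ Cfsg.Geo.scalars (Fin 3) F ↔ ∀ i j, d i ^ m = d j ^ m := by
  constructor
  · intro hm
    obtain ⟨μ, hμ⟩ := gE_scalar hm
    rw [h.zpow m, mul_inv_eq_iff_eq_mul, ← dHom_const_comm, mul_left_cancel_iff] at hμ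
    have hv : ∀ i, d i ^ m = μ := fun i => Units.ext (by
      have := congrArg (fun g : GL (Fin 3) (AlgebraicClosure F) =>
        (g : Matrix (Fin 3) (Fin 3) (AlgebraicClosure F)) i i) hμ
      simp only [dHom_val, Matrix.diagonal_apply_eq] at this
      exact this)
    intro i j
    rw [hv, hv]
  · intro hc
    have hconst : d ^ m = fun _ => d 0 ^ m := funext fun i => hc i 0
    have h1 := h.zpow m
    rw [hconst, dHom_const_comm, mul_inv_cancel_right] at h1
    have hval : ∀ i j, algebraMap F (AlgebraicClosure F) ((g ^ m : GL (Fin 3) F).1 i j) =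
        if i = j then ((d 0 ^ m : (AlgebraicClosure F)ˣ) : AlgebraicClosure F) else 0 := fun i j => by
      have := congrArg (fun g : GL (Fin 3) (AlgebraicClosure F) =>
        (g : Matrix (Fin 3) (Fin 3) (AlgebraicClosure F)) i j) h1
      simp only [dHom_val, Matrix.diagonal_apply] at this
      exact this
    have h00 : (g ^ m : GL (Fin 3) F).1 0 0 ≠ 0 := fun h0 => by
      have := hval 0 0
      rw [h0, map_zero, if_pos rfl] at this
      exact (d 0 ^ m).ne_zero this.symm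
    refine (Cfsg.Geo.mem_scalars_iff _).2 ⟨Units.mk0 _ h00, ?_⟩
    ext i j
    apply (algebraMap F (AlgebraicClosure F)).injective
    rw [hval i j]
    by_cases hij : i = j
    · subst hij
      rw [if_pos rfl, Units.val_mk0, Matrix.smul_apply, Matrix.one_apply_eq, smul_eq_mul, mul_one,
        hval 0 0, if_pos rfl]
    · simp [hij]

theorem IsEig.rel {g h : GL (Fin 3) F} {Q : GL (Fin 3) (AlgebraicClosure F)}
    {d : Fin 3 → (AlgebraicClosure F)ˣ} (he : IsEig g Q d) {k : ℤ}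
    (hc : h * g * h⁻¹ * (g ^ k)⁻¹ ∈ Cfsg.Geo.scalars (Fin 3) F) : ∃ σ, Rel k σ d := by
  obtain ⟨μ, hμ⟩ := gE_scalar hc
  rw [map_mul, map_mul, map_mul, map_inv, map_inv, he.zpow k, mul_inv_eq_iff_eq_mul,
    mul_inv_eq_iff_eq_mul] at hμ
  have he' : gE F g = Q * dHom d * Q⁻¹ := he
  rw [he'] at hμ
  have key : Q⁻¹ * gE F h * Q * dHom d = dHom (fun i => μ * d i ^ k) * (Q⁻¹ * gE F h * Q) := by
    rw [show (fun i => μ * d i ^ k) = (fun _ => μ) * d ^ k from rfl, map_mul]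
    calc Q⁻¹ * gE F h * Q * dHom d = Q⁻¹ * (gE F h * (Q * dHom d * Q⁻¹)) * Q := by group
      _ = Q⁻¹ * dHom (fun _ => μ) * (Q * dHom (d ^ k) * Q⁻¹) * gE F h * Q := by rw [hμ]; group
      _ = dHom (fun _ => μ) * Q⁻¹ * (Q * dHom (d ^ k) * Q⁻¹) * gE F h * Q := by
        rw [dHom_const_comm μ Q⁻¹]
      _ = dHom (fun _ => μ) * dHom (d ^ k) * (Q⁻¹ * gE F h * Q) := by group
  obtain ⟨σ, hσ⟩ := exists_perm_of_similar key
  exact ⟨σ, μ, hσ⟩

theorem IsEig.frob [Fintype F] {g : GL (Fin 3) F} {Q : GL (Fin 3) (AlgebraicClosure F)}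
    {d : Fin 3 → (AlgebraicClosure F)ˣ} (he : IsEig g Q d) :
    ∃ σ, Rel (Fintype.card F : ℤ) σ d := by
  obtain ⟨p, hp⟩ := CharP.exists F
  obtain ⟨α, hpp, hcard⟩ := FiniteField.card F p
  haveI : Fact p.Prime := ⟨hpp⟩
  haveI : CharP (AlgebraicClosure F) p :=
    charP_of_injective_algebraMap (algebraMap F (AlgebraicClosure F)).injective p
  haveI : ExpChar (AlgebraicClosure F) p := ExpChar.prime hpp
  let ψ := iterateFrobenius (AlgebraicClosure F) p α
  have hψ : ∀ x, ψ x = x ^ Fintype.card F := fun x => by rw [hcard]; exact iterateFrobenius_def p α x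
  have hfix : Matrix.GeneralLinearGroup.map ψ (gE F g) = gE F g := by
    refine Units.ext (Matrix.ext fun i j => ?_)
    show ψ (algebraMap F _ (g.1 i j)) = algebraMap F _ (g.1 i j)
    rw [hψ, ← map_pow, FiniteField.pow_card]
  have hd : Matrix.GeneralLinearGroup.map ψ (dHom d) = dHom (d ^ Fintype.card F) := by
    refine Units.ext ?_
    show (dHom d).1.map ψ = _
    rw [dHom_val, dHom_val, Matrix.diagonal_map (map_zero ψ)]
    congr 1
    funext i
    simp [hψ]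
  have he' : gE F g = Q * dHom d * Q⁻¹ := he
  rw [he', map_mul, map_mul, map_inv, hd] at hfix
  set Q' := Matrix.GeneralLinearGroup.map ψ Q
  have key : Q'⁻¹ * Q * dHom d = dHom (d ^ Fintype.card F) * (Q'⁻¹ * Q) := by
    calc Q'⁻¹ * Q * dHom d = Q'⁻¹ * (Q * dHom d * Q⁻¹) * Q := by group
      _ = Q'⁻¹ * (Q' * dHom (d ^ Fintype.card F) * Q'⁻¹) * Q := by rw [hfix]
      _ = dHom (d ^ Fintype.card F) * (Q'⁻¹ * Q) := by group
  obtain ⟨σ, hσ⟩ := exists_perm_of_similar key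
  exact ⟨σ, 1, fun i => by rw [one_mul, hσ i, Pi.pow_apply, _root_.zpow_natCast]⟩

theorem exists_pow_one {n : ℕ} (hn : (n : F) ≠ 0) {g : GL (Fin 3) F}
    (hsl : g ∈ Cfsg.Geo.specialLinear (Fin 3) F) (hg : g ^ n ∈ Cfsg.Geo.scalars (Fin 3) F) :
    ∃ m : ℕ, (m : AlgebraicClosure F) ≠ 0 ∧ g ^ m = 1 := by
  suffices ∃ m : ℕ, (m : F) ≠ 0 ∧ g ^ m = 1 by
    obtain ⟨m, hm, hgm⟩ := this
    refine ⟨m, ?_, hgm⟩
    have := (map_ne_zero (algebraMap F (AlgebraicClosure F))).2 hm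
    rwa [map_natCast] at this
  obtain ⟨c, -, hc, -⟩ := app_of_mem_scalars hg
  have hc3 : c ^ 3 = 1 := by
    have h := Cfsg.Agent.Transvect.mem_sl_iff.1 (pow_mem hsl n)
    rwa [det_scalar hc] at h
  by_cases h3 : (3 : F) = 0
  · refine ⟨n, hn, Units.ext ?_⟩
    have hc1 : c = 1 := sub_eq_zero.1 (pow_eq_zero_iff (n := 3) (by norm_num) |>.1
      (by linear_combination hc3 - (c ^ 2 - c) * h3))
    rw [hc, hc1, one_smul]; rfl
  · refine ⟨n * 3, by push_cast; exact mul_ne_zero hn h3, Units.ext ?_⟩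
    rw [pow_mul, Units.val_pow_eq_pow_val, hc, smul_pow, hc3, one_pow, one_smul]; rfl

theorem exists_isEig {n : ℕ} (hn : (n : F) ≠ 0) {g : GL (Fin 3) F}
    (hsl : g ∈ Cfsg.Geo.specialLinear (Fin 3) F) (hg : g ^ n ∈ Cfsg.Geo.scalars (Fin 3) F) :
    ∃ Q d, IsEig g Q d := by
  obtain ⟨m, hm, hgm⟩ := exists_pow_one hn hsl hg
  have hX : ((gE F g : GL (Fin 3) (AlgebraicClosure F)) :
      Matrix (Fin 3) (Fin 3) (AlgebraicClosure F)) ^ m = 1 := by
    rw [← Units.val_pow_eq_pow_val, ← map_pow, hgm, map_one]; rfl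
  obtain ⟨P, d, hd⟩ := exists_diag hX hm
  have hd0 : ∀ i, d i ≠ 0 := fun i h0 => by
    have h1 : (diagonal d).det ≠ 0 := by
      rw [← hd, Matrix.det_units_conj]; exact (Matrix.isUnits_det_units _).ne_zero
    rw [Matrix.det_diagonal] at h1
    exact h1 (Finset.prod_eq_zero (Finset.mem_univ i) h0)
  refine ⟨P⁻¹, fun i => Units.mk0 (d i) (hd0 i), ?_⟩
  have h2 : P * gE F g * P⁻¹ = dHom fun i => Units.mk0 (d i) (hd0 i) := Units.ext (by
    rw [Units.val_mul, Units.val_mul, hd, dHom_val]; rfl)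
  rw [IsEig, ← h2]
  group

end Bridge

end Cfsg.Agent.Mitchell.Ident
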