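import Cfsg.Agent.Lib.Mitchell.Ident.Root

/-!
# The defining characteristic: the field of `PSL₂(K)` embeds into `F`

* `exists_unipotent_lift` : root elements lift to unipotent elements of `G`;
* `exists_ringHom` : the coefficient of `X_a - 1` at `X_1 - 1` is a field embedding.
-/

set_option autoImplicit false
set_option linter.unusedSectionVars false

namespace Cfsg.Agent.Mitchell.Ident

open Matrix
open Cfsg.Agent.SL3Max Cfsg.Agent.Transvect
open Cfsg.Agent.PSL2 (SL2 PSL2)

universe u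

variable {F : Type u} [Field F] {G : Subgroup (GL (Fin 3) F)}
variable {K : Type} [Field K]

theorem scalar_eq_one_of_pow (p : ℕ) [Fact p.Prime] [CharP F p] {s : GL (Fin 3) F}
    (hs : s ∈ Cfsg.Geo.scalars (Fin 3) F) (h : s ^ p = 1) : s = 1 := by
  obtain ⟨c, -, hc, -⟩ := app_of_mem_scalars hs
  have hp : c ^ p = 1 := by
    have h1 := congrArg (fun g : GL (Fin 3) F => (g : Matrix (Fin 3) (Fin 3) F) 0 0) h
    simp only [Units.val_pow_eq_pow_val, hc, smul_pow, one_pow] at h1
    simpa using h1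
  have hc1 : (c - 1) ^ p = 0 := by rw [sub_pow_char, hp, one_pow, sub_self]
  exact Units.ext (by rw [hc, sub_eq_zero.1 (eq_zero_of_pow_eq_zero hc1), one_smul]; rfl)

/-- A linear map `X` with `(X - 1)² = 0` and `X ≠ 1` is a transvection. -/
theorem cen_of_sq_zero {g : GL (Fin 3) F} (hg : g ∈ G) (hne : g ≠ 1)
    (h : ((g : Matrix (Fin 3) (Fin 3) F) - 1) * ((g : Matrix (Fin 3) (Fin 3) F) - 1) = 0) :
    ∃ c : V3 F, Cen G c := by
  let N : Matrix (Fin 3) (Fin 3) F := (g : Matrix (Fin 3) (Fin 3) F) - 1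
  let L : V3 F →ₗ[F] V3 F := Matrix.toLin' N
  have hL2 : LinearMap.range L ≤ LinearMap.ker L := by
    rintro _ ⟨x, rfl⟩
    rw [LinearMap.mem_ker]
    show N *ᵥ (N *ᵥ x) = 0
    rw [Matrix.mulVec_mulVec, h, Matrix.zero_mulVec]
  obtain ⟨x0, hx0⟩ : ∃ x, L x ≠ 0 := by
    by_contra! h0
    refine hne (Units.ext (Matrix.ext_of_mulVec_single fun i => ?_))
    have h1 : N *ᵥ Pi.single i 1 = 0 := h0 _
    rw [Matrix.sub_mulVec, sub_eq_zero] at h1
    rw [h1]; rfl
  have hr : Module.finrank F (LinearMap.range L) ≤ 1 := by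
    have h1 := Submodule.finrank_mono hL2
    have h2 := LinearMap.finrank_range_add_finrank_ker L
    rw [Module.finrank_fintype_fun_eq_card, Fintype.card_fin] at h2
    omega
  have hspan : LinearMap.range L = F ∙ L x0 := by
    refine (Submodule.eq_of_le_of_finrank_le ?_ ?_).symm
    · rw [Submodule.span_singleton_le_iff_mem]; exact ⟨x0, rfl⟩
    · rw [finrank_span_singleton hx0]; exact hr
  obtain ⟨ψ, hψ⟩ := Submodule.exists_le_ker_of_notMem
    (p := (⊥ : Submodule F (V3 F))) (v := L x0) (by simpa using hx0)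
  let φ : D3 F := (ψ (L x0))⁻¹ • ψ ∘ₗ L
  have hφ : ∀ x, L x = φ x • L x0 := fun x => by
    obtain ⟨a, ha⟩ := Submodule.mem_span_singleton.1 (hspan ▸ LinearMap.mem_range_self L x)
    rw [show φ x = (ψ (L x0))⁻¹ * ψ (L x) from rfl, ← ha, map_smul, smul_eq_mul,
      mul_comm a, ← mul_assoc, inv_mul_cancel₀ hψ.1, one_mul]
  have hφc : φ (L x0) = 0 := by
    rw [show φ (L x0) = (ψ (L x0))⁻¹ * ψ (L (L x0)) from rfl,
      LinearMap.mem_ker.1 (hL2 ⟨x0, rfl⟩), map_zero, mul_zero]
  refine ⟨L x0, hx0, φ, fun h0 => hx0 ?_, hφc, ?_⟩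
  · rw [hφ x0, h0, LinearMap.zero_apply, zero_smul]
  · convert hg
    refine gl_ext fun x => ?_
    rw [tv_apply hφc, ← hφ, app_apply]
    show x + N *ᵥ x = _
    rw [Matrix.sub_mulVec, Matrix.one_mulVec, add_sub_cancel]

theorem exists_unipotent_lift (p : ℕ) [Fact p.Prime] [CharP F p] [CharP K p] (e : Sq G ≃* PSL2 K)
    (hsl : G ≤ Cfsg.Geo.specialLinear (Fin 3) F) (a : K) : ∃ X : ↥G, pr G X = e.symm (U a) ∧ (X : GL (Fin 3) F) ^ p = 1 := by
  obtain ⟨g, hg⟩ := QuotientGroup.mk'_surjective _ (e.symm (U a))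
  have hW : g ∈ W e := (mem_W e).2 ⟨a, hg⟩
  have hs := pow_mem_scalars e (CharP.cast_eq_zero K p) hW
  have h3 := scalar_cube hs (pow_mem (hsl g.2) p)
  by_cases hp3 : p = 3
  · subst hp3
    exact ⟨g, hg, scalar_eq_one_of_pow 3 hs h3⟩
  obtain ⟨k, hk1, hk0⟩ := Nat.chineseRemainder
    ((Nat.coprime_primes (Fact.out : p.Prime) Nat.prime_three).2 hp3) 1 0
  refine ⟨g ^ k, ?_, ?_⟩
  · have hkK : (k : K) = 1 := by
      rw [← Nat.cast_one, CharP.natCast_eq_natCast K p]; exact hk1
    rw [map_pow, hg, ← map_pow, ← U_nsmul, nsmul_eq_mul, hkK, one_mul]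
  · obtain ⟨j, hj⟩ := Nat.modEq_zero_iff_dvd.1 hk0
    rw [SubgroupClass.coe_pow, ← pow_mul, mul_comm, pow_mul, hj, pow_mul, h3, one_pow]

theorem unipotent_unique (p : ℕ) [Fact p.Prime] [CharP F p] {X Y : ↥G} (h : pr G X = pr G Y)
    (hX : (X : GL (Fin 3) F) ^ p = 1) (hY : (Y : GL (Fin 3) F) ^ p = 1) : X = Y := by
  have hs := pr_eq.1 h
  have hp : ((X : GL (Fin 3) F) * (Y : GL (Fin 3) F)⁻¹) ^ p = 1 := by
    have hc : Commute ((X : GL (Fin 3) F) * (Y : GL (Fin 3) F)⁻¹) (Y : GL (Fin 3) F) :=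
      scalar_central hs _
    have h1 := hc.mul_pow p
    rwa [inv_mul_cancel_right, hX, hY, mul_one, eq_comm] at h1
  exact Subtype.ext (mul_inv_eq_one.1 (scalar_eq_one_of_pow p hs hp))

theorem unipotent_comm (p : ℕ) [Fact p.Prime] [CharP F p] (hsl : G ≤ Cfsg.Geo.specialLinear (Fin 3) F) {X Y : ↥G}
    (h : pr G X * pr G Y = pr G Y * pr G X) (hY : (Y : GL (Fin 3) F) ^ p = 1) :
    (X : GL (Fin 3) F) * Y = Y * X := by
  obtain ⟨hs, -⟩ := commutator_facts hsl h
  obtain ⟨c, hcdef⟩ : ∃ c : GL (Fin 3) F, c = ((X * Y * X⁻¹ * Y⁻¹ : ↥G) : GL (Fin 3) F) := ⟨_, rfl⟩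
  rw [← hcdef] at hs
  have e1 : (X : GL (Fin 3) F) * Y * (X : GL (Fin 3) F)⁻¹ = c * Y := by
    rw [hcdef, Subgroup.coe_mul, Subgroup.coe_mul, Subgroup.coe_mul, Subgroup.coe_inv,
      Subgroup.coe_inv, inv_mul_cancel_right]
  have e2 : c ^ p = 1 := by
    have h1 := congrArg (· ^ p) e1
    simp only [conj_pow, (show Commute c (Y : GL (Fin 3) F) from scalar_central hs _).mul_pow, hY,
      mul_one, mul_inv_cancel] at h1
    exact h1.symm
  rw [scalar_eq_one_of_pow p hs e2, one_mul, mul_inv_eq_iff_eq_mul] at e1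
  exact e1

theorem exists_ringHom [Fintype F] [Fintype K] (p : ℕ) [Fact p.Prime] [CharP F p] [CharP K p]
    (e : Sq G ≃* PSL2 K) (hsl : G ≤ Cfsg.Geo.specialLinear (Fin 3) F)
    (hef : ElationFree G) (hK : Odd (Fintype.card K)) : Nonempty (K →+* F) := by
  classical
  choose X hX hXp using exists_unipotent_lift p e hsl
  let N : K → Matrix (Fin 3) (Fin 3) F := fun a => ((X a : GL (Fin 3) F) : Matrix (Fin 3) (Fin 3) F) - 1
  have hadd : ∀ a b, (X (a + b) : GL (Fin 3) F) = X a * X b := fun a b => by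
    refine congrArg Subtype.val (unipotent_unique p (X := X (a + b)) (Y := X a * X b) ?_ (hXp _) ?_)
    · rw [map_mul, hX, hX, hX, ← map_mul, U_add]
    · have hc : Commute (X a : GL (Fin 3) F) (X b) := unipotent_comm p hsl
        (by rw [hX, hX, ← map_mul, ← map_mul, U_comm]) (hXp b)
      rw [Subgroup.coe_mul, hc.mul_pow, hXp, hXp, one_mul]
  have hN : ∀ a b, N (a + b) = N a + N b + N a * N b := fun a b => by
    show _ - 1 = _
    rw [hadd, Units.val_mul]
    simp only [N, sub_mul, mul_sub, one_mul, mul_one]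
    abel
  have hcomm : ∀ a b, N a * N b = N b * N a := fun a b => by
    have h1 := hN a b
    rw [add_comm a b, hN b a, add_comm (N b) (N a)] at h1
    exact (add_left_cancel h1).symm
  have hnil : ∀ a, N a ^ 3 = 0 := fun a => by
    have h1 : IsNilpotent (N a) := ⟨p, by
      haveI : CharP (Matrix (Fin 3) (Fin 3) F) p := inferInstance
      show (_ - 1) ^ p = 0
      rw [sub_pow_char_of_commute _ (Commute.one_right _), one_pow, ← Units.val_pow_eq_pow_val,
        hXp, Units.val_one, sub_self]⟩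
    have h2 := (N a).aeval_self_charpoly
    rw [sub_eq_zero.1 (Matrix.isNilpotent_charpoly_sub_pow_of_isNilpotent h1).eq_zero,
      map_pow, Polynomial.aeval_X, Fintype.card_fin] at h2
    exact h2
  have hreg : ∀ a, a ≠ 0 → N a * N a ≠ 0 := fun a ha h0 => by
    obtain ⟨c, hc⟩ := cen_of_sq_zero (X a).2 (fun h1 => by
      have h2 : pr G (X a) = 1 := by
        rw [show X a = 1 from Subtype.ext h1, map_one]
      rw [hX, ← map_one e.symm] at h2
      exact U_ne_one ha (e.symm.injective h2)) h0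
    exact hef c hc
  set N1 := N 1 with hN1
  have hN3 : N1 * N1 * N1 = 0 := by
    have h := hnil 1
    rwa [pow_succ, pow_two] at h
  obtain ⟨v, hv⟩ : ∃ v : V3 F, (N1 * N1) *ᵥ v ≠ 0 := by
    by_contra! h
    exact hreg 1 one_ne_zero (Matrix.ext_of_mulVec_single fun i => by
      rw [h, Matrix.zero_mulVec])
  have hli : LinearIndependent F ![v, N1 *ᵥ v, (N1 * N1) *ᵥ v] := by
    rw [Fintype.linearIndependent_iff]
    intro g hg
    simp only [Fin.sum_univ_three, Matrix.cons_val_zero, Matrix.cons_val_one, Matrix.cons_val_two,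
      Matrix.tail_cons, Matrix.head_cons, Matrix.cons_val] at hg
    have e0 := congrArg (fun w => (N1 * N1) *ᵥ w) hg
    simp only [Matrix.mulVec_add, Matrix.mulVec_smul, Matrix.mulVec_mulVec, hN3, Matrix.mulVec_zero,
      Matrix.zero_mulVec, smul_zero, add_zero, ← mul_assoc, zero_mul] at e0
    have g0 : g 0 = 0 := (smul_eq_zero.1 e0).resolve_right hv
    rw [g0, zero_smul, zero_add] at hg
    have e1 := congrArg (fun w => N1 *ᵥ w) hg
    simp only [Matrix.mulVec_add, Matrix.mulVec_smul, Matrix.mulVec_mulVec, hN3, Matrix.mulVec_zero,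
      Matrix.zero_mulVec, smul_zero, add_zero, ← mul_assoc] at e1
    have g1 : g 1 = 0 := (smul_eq_zero.1 e1).resolve_right hv
    rw [g1, zero_smul, zero_add] at hg
    have g2 : g 2 = 0 := (smul_eq_zero.1 hg).resolve_right hv
    intro i; fin_cases i
    exacts [g0, g1, g2]
  have hspan : Submodule.span F (Set.range ![v, N1 *ᵥ v, (N1 * N1) *ᵥ v]) = ⊤ :=
    hli.span_eq_top_of_card_eq_finrank' (by simp)
  have hex : ∀ a, ∃ c d : F, N a = c • N1 + d • (N1 * N1) := by
    intro a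
    obtain ⟨g, hg⟩ := (Submodule.mem_span_range_iff_exists_fun F).1
      (hspan ▸ Submodule.mem_top (x := N a *ᵥ v))
    simp only [Fin.sum_univ_three, Matrix.cons_val_zero, Matrix.cons_val_one, Matrix.cons_val_two,
      Matrix.tail_cons, Matrix.head_cons, Matrix.cons_val] at hg
    -- the polynomial agrees with `N a` on the three basis vectors
    have hc : ∀ w, N a *ᵥ (N1 *ᵥ w) = N1 *ᵥ (N a *ᵥ w) := fun w => by
      rw [Matrix.mulVec_mulVec, Matrix.mulVec_mulVec, hcomm a 1]
    have hP : N a = g 0 • (1 : Matrix (Fin 3) (Fin 3) F) + g 1 • N1 + g 2 • (N1 * N1) := by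
      refine Matrix.toLin'.injective (LinearMap.ext_on_range hspan fun i => ?_)
      rw [Matrix.toLin'_apply, Matrix.toLin'_apply]
      have e0 : N a *ᵥ v = (g 0 • (1 : Matrix (Fin 3) (Fin 3) F) + g 1 • N1 + g 2 • (N1 * N1)) *ᵥ v := by
        rw [← hg]; simp [Matrix.add_mulVec, Matrix.smul_mulVec]
      have e1 : N a *ᵥ (N1 *ᵥ v) =
          (g 0 • (1 : Matrix (Fin 3) (Fin 3) F) + g 1 • N1 + g 2 • (N1 * N1)) *ᵥ (N1 *ᵥ v) := by
        rw [hc, e0]
        simp [Matrix.add_mulVec, Matrix.smul_mulVec, Matrix.mulVec_add, Matrix.mulVec_smul,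
          Matrix.mulVec_mulVec, Matrix.add_mul, Matrix.mul_add, Matrix.smul_mul, Matrix.mul_smul,
          mul_assoc]
      fin_cases i
      · exact e0
      · exact e1
      · show N a *ᵥ ((N1 * N1) *ᵥ v) = _ *ᵥ ((N1 * N1) *ᵥ v)
        rw [← Matrix.mulVec_mulVec, hc, e1]
        simp [Matrix.add_mulVec, Matrix.smul_mulVec, Matrix.mulVec_add, Matrix.mulVec_smul,
          Matrix.mulVec_mulVec, Matrix.add_mul, Matrix.mul_add, Matrix.smul_mul, Matrix.mul_smul,
          mul_assoc]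
    refine ⟨g 1, g 2, ?_⟩
    suffices g 0 = 0 by rw [hP, this, zero_smul, zero_add]
    have h3 := congrArg (fun w => (N1 * N1) *ᵥ w) (congrArg (· *ᵥ v) (hnil a))
    have hpow : (N1 * N1) * N a ^ 3 = g 0 ^ 3 • (N1 * N1) := by
      have h1 : (N1 * N1) * N a = g 0 • (N1 * N1) := by
        rw [hP]
        simp [Matrix.mul_add, Matrix.mul_smul, ← mul_assoc, hN3]
      rw [pow_succ, pow_two, ← mul_assoc, ← mul_assoc, h1, Matrix.smul_mul, h1, smul_smul,
        Matrix.smul_mul, h1, smul_smul]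
      congr 1; ring
    simp only [Matrix.zero_mulVec, Matrix.mulVec_zero, Matrix.mulVec_mulVec] at h3
    rw [hpow, Matrix.smul_mulVec] at h3
    exact pow_eq_zero_iff (n := 3) (by norm_num) |>.1 ((smul_eq_zero.1 h3).resolve_right hv)
  choose c d hcd using hex
  have huniq : ∀ {x y x' y' : F}, x • N1 + y • (N1 * N1) = x' • N1 + y' • (N1 * N1) → x = x' := by
    intro x y x' y' h
    have h1 := congrArg (fun M => (N1 * M) *ᵥ v) h
    simp only [Matrix.mul_add, Matrix.mul_smul, ← mul_assoc, hN3, smul_zero, add_zero,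
      Matrix.smul_mulVec] at h1
    rw [← sub_eq_zero, ← sub_smul] at h1
    exact sub_eq_zero.1 ((smul_eq_zero.1 h1).resolve_right hv)
  have hsq : ∀ x y x' y' : F, (x • N1 + y • (N1 * N1)) * (x' • N1 + y' • (N1 * N1)) =
      (x * x') • (N1 * N1) := by
    intro x y x' y'
    simp [Matrix.mul_add, Matrix.add_mul, Matrix.mul_smul, Matrix.smul_mul, ← mul_assoc, hN3,
      smul_smul, mul_comm]
  have cadd : ∀ a b, c (a + b) = c a + c b := fun a b => by
    refine huniq (y := d (a + b)) (y' := d a + d b + c a * c b) ?_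
    rw [← hcd, hN, hcd a, hcd b, hsq]
    simp only [add_smul]
    abel
  have c1 : c 1 = 1 := huniq (y := d 1) (y' := 0) (by rw [← hcd, one_smul, zero_smul, add_zero])
  have cconj : ∀ t : K, t ≠ 0 → ∀ a, c (t * t * a) = c (t * t) * c a := by
    intro t ht a
    obtain ⟨h, hh⟩ := exists_conj_W e ht
    have hXc : ∀ b, (X (t * t * b) : GL (Fin 3) F) = h * X b * (h : GL (Fin 3) F)⁻¹ := fun b => by
      refine congrArg Subtype.val (unipotent_unique p (X := X (t * t * b)) (Y := h * X b * h⁻¹)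
        ?_ (hXp _) ?_)
      · rw [hX, hh _ b (hX b)]
      · rw [Subgroup.coe_mul, Subgroup.coe_mul, Subgroup.coe_inv, conj_pow, hXp, mul_one,
          mul_inv_cancel]
    let H : Matrix (Fin 3) (Fin 3) F := ((h : GL (Fin 3) F) : Matrix (Fin 3) (Fin 3) F)
    let H' : Matrix (Fin 3) (Fin 3) F :=
      (((h : GL (Fin 3) F)⁻¹ : GL (Fin 3) F) : Matrix (Fin 3) (Fin 3) F)
    have hHH : H * H' = 1 := Units.mul_inv _
    have hH'H : H' * H = 1 := Units.inv_mul _
    have hNc : ∀ b, N (t * t * b) = H * N b * H' := fun b => by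
      show _ - 1 = _
      rw [hXc b, Units.val_mul, Units.val_mul]
      show H * _ * H' - 1 = H * (_ - 1) * H'
      rw [mul_sub, mul_one, sub_mul, hHH]
    have h1 : H * N1 * H' = c (t * t) • N1 + d (t * t) • (N1 * N1) := by
      rw [← hcd, ← hNc 1, mul_one]
    have h2 : H * (N1 * N1) * H' = (c (t * t) * c (t * t)) • (N1 * N1) := by
      rw [← hsq (c (t * t)) (d (t * t)) (c (t * t)) (d (t * t)), ← h1]
      simp only [mul_assoc]
      rw [← mul_assoc H' H, hH'H, one_mul]
    refine huniq (y := d (t * t * a)) (y' := c a * d (t * t) + d a * (c (t * t) * c (t * t))) ?_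
    rw [← hcd, hNc, hcd a, Matrix.mul_add, Matrix.add_mul, Matrix.mul_smul, Matrix.smul_mul,
      Matrix.mul_smul, Matrix.smul_mul, h1, h2]
    simp only [smul_add, smul_smul, add_smul]
    rw [mul_comm (c a) (c (t * t))]
    abel
  have c0 : c 0 = 0 := by
    have h := cadd 0 0
    rwa [add_zero, left_eq_add] at h
  let A : AddSubgroup K :=
    { carrier := {z | ∀ b, c (z * b) = c z * c b}
      zero_mem' := fun b => by rw [zero_mul, c0, zero_mul]
      add_mem' := fun {x y} hx hy b => by rw [add_mul, cadd, hx b, hy b, cadd, add_mul]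
      neg_mem' := fun {x} hx b => by
        have e1 := cadd (-x * b) (x * b)
        have e2 := cadd (-x) x
        rw [neg_mul, neg_add_cancel, c0] at e1
        rw [neg_add_cancel, c0] at e2
        rw [neg_mul]
        linear_combination -e1 + c b * e2 - hx b }
  have hA : ∀ z, z ∈ A := closed_eq_top (two_ne_zero_of_odd hK) A
    (fun t ht x hx b => by
      rw [mul_assoc (t * t), cconj t ht, hx b, cconj t ht, mul_assoc])
    (fun b => by rw [one_mul, c1, one_mul]) one_ne_zero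
  exact ⟨{ toFun := c, map_one' := c1, map_mul' := fun x y => hA x y, map_zero' := c0, map_add' := cadd }⟩

end Cfsg.Agent.Mitchell.Ident
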