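import Cfsg.Agent.Lib.Mitchell.Ident.Outer
import Cfsg.Agent.Lib.Mitchell.Almost.Assembly

/-!
# The identification inputs of `Almost.Assembly.classify`

`freeInputs` : everything in `FreeInputs` follows from the determination of the simple groups.
-/

set_option autoImplicit false

namespace Cfsg.Agent.Mitchell.Ident

universe u

theorem freeInputs {F : Type u} [Field F] [Fintype F] (p α : ℕ) [Fact p.Prime] (hp : p ≠ 2)
    (hF : Fintype.card F = p ^ α)
    (free : ∀ {G : Subgroup (GL (Fin 3) F)}, Ctx G →
      (∃ (K : Type) (_ : Field K) (_ : Fintype K), Odd (Fintype.card K) ∧ 3 < Fintype.card K ∧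
        Nonempty (Sq G ≃* Matrix.ProjectiveSpecialLinearGroup (Fin 2) K)) ∨
      Nonempty (Sq G ≃* alternatingGroup (Fin 7))) :
    Almost.FreeInputs F p α where
  free := free
  ident := by
    intro G C _ K _ _ hK hK3 e
    exact ident_psl2 p α hp hF C hK hK3 e
  identSeven := by
    intro G C _ e7
    exact ident_altSeven p α hp hF C e7
  outerDef := by
    intro G C _ K _ _ hK hK3 e G' hle _ hnorm hcent β hβ
    exact outer_psl2_defining p α hF C hle hnorm hcent hK hK3 e hβ
  outerSmall := by
    intro G C _ K _ _ _ _ e G' hle hsl hnorm hcent h57 hne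
    exact outer_psl2_small p α hF C hle hsl hnorm hcent e h57 hne
  outerNine := by
    intro G C _ K _ _ _ _ e G' hle hsl hnorm hcent h9 hp3
    exact outer_psl2_nine p α hp hF C hle hsl hnorm hcent e h9 hp3
  outerSeven := by
    intro G C _ e7 G' hle hsl hnorm hcent
    exact outer_altSeven p α hp hF C hle hsl hnorm hcent e7

end Cfsg.Agent.Mitchell.Ident
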