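import Cfsg.Agent.Lib.PSL2.Conjugacy
import Cfsg.Agent.Lib.PSL2.Torus
import Cfsg.Agent.Lib.PSL2.Elements
import Cfsg.Agent.Lib.PSL2.Borel
import Cfsg.Agent.Lib.PSL2.PGL
import Cfsg.Agent.Lib.AutPSL.Count

/-!
# Facts about `PSL₂(K)` used for the identification

* `U` : the upper unipotent elements; `conj_U` : squares act on them;
* `closed_eq_top` : an additive subgroup closed under squares of the field is trivial;
* `companion_facts` : the semisimple element with a given trace;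
* `exists_real` : real elements of the torus orders.
-/

set_option autoImplicit false
set_option linter.unusedSectionVars false

namespace Cfsg.Agent.Mitchell.Ident

open Matrix
open Cfsg.Agent.PSL2 (SL2 PSL2 tr)

variable {K : Type*} [Field K]

/-- An upper unipotent element of `SL₂`. -/
def uS (a : K) : SL2 K := ⟨!![1, a; 0, 1], by simp [Matrix.det_fin_two]⟩

/-- An upper unipotent element of `PSL₂`. -/
def U (a : K) : PSL2 K := QuotientGroup.mk (uS a)

theorem uS_add (a b : K) : uS (a + b) = uS a * uS b :=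
  Subtype.ext (show (uS (a + b)).1 = (uS a).1 * (uS b).1 by simp [uS, Matrix.mul_fin_two, add_comm])

theorem U_add (a b : K) : U (a + b) = U a * U b := by rw [U, uS_add, QuotientGroup.mk_mul]; rfl

/-- `U` as a homomorphism. -/
def UHom : Multiplicative K →* PSL2 K :=
  MonoidHom.mk' (fun a => U a.toAdd) fun a b => U_add _ _

theorem U_zero : U (0 : K) = 1 := map_one UHom

theorem U_nsmul (a : K) (m : ℕ) : U (m • a) = U a ^ m := map_pow UHom (Multiplicative.ofAdd a) m

theorem U_natCast (m : ℕ) : U (m : K) = U (1 : K) ^ m := by rw [← U_nsmul, nsmul_one]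

theorem U_neg (a : K) : U (-a) = (U a)⁻¹ := map_inv UHom (Multiplicative.ofAdd a)

theorem U_comm (a b : K) : U a * U b = U b * U a := by rw [← U_add, ← U_add, add_comm]

theorem U_injective [Nontrivial K] : Function.Injective (U : K → PSL2 K) := fun a b h => by
  have h1 : U (a + -b) = 1 := by rw [U_add, U_neg, h, mul_inv_cancel]
  rw [U, PSL2.mk_one_iff] at h1
  rcases h1 with h1 | h1 <;>
    have e01 := congrArg (fun g : SL2 K => g.1 0 1) h1 <;>
    simpa [uS, add_neg_eq_zero] using e01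

theorem U_ne_one {a : K} (ha : a ≠ 0) : U a ≠ 1 := fun h =>
  ha (U_injective (h.trans U_zero.symm))

theorem conj_U {t : K} (ht : t ≠ 0) : ∃ w : PSL2 K, ∀ a, w * U a * w⁻¹ = U (t * t * a) := by
  let d : SL2 K := ⟨!![t, 0; 0, t⁻¹], by simp [Matrix.det_fin_two, ht]⟩
  refine ⟨QuotientGroup.mk d, fun a => ?_⟩
  rw [mul_inv_eq_iff_eq_mul, U, U, ← QuotientGroup.mk_mul, ← QuotientGroup.mk_mul]
  refine congrArg _ (Subtype.ext ?_)
  show d.1 * (uS a).1 = (uS (t * t * a)).1 * d.1
  simp only [uS, d, Matrix.mul_fin_two]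
  ext i j
  fin_cases i <;> fin_cases j <;> simp
  field_simp

theorem conj_U_sq {k : K} (hk : k ≠ 0) (hs : IsSquare k) :
    ∃ w : PSL2 K, ∀ a, w * U a * w⁻¹ = U (k * a) := by
  obtain ⟨t, rfl⟩ := hs
  exact conj_U (fun h => hk (by rw [h, zero_mul]))

theorem outConj_diag {g : K} (hg : g ≠ 0) :
    ∃ u : GL (Fin 2) K, ∀ a, PSL2.outConj u (U a) = U (g * a) := by
  refine ⟨GeneralLinearGroup.mkOfDetNeZero !![g, 0; 0, 1] (by simp [Matrix.det_fin_two, hg]),
    fun a => PSL2.outConj_mk _ (s := uS a) (s' := uS (g * a)) ?_⟩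
  simp [uS, GeneralLinearGroup.mkOfDetNeZero, Matrix.mul_fin_two]

/-- A non-zero additive subgroup closed under multiplication by squares is everything. -/
theorem closed_eq_top (h2 : (2 : K) ≠ 0) (A : AddSubgroup K)
    (hA : ∀ t : K, t ≠ 0 → ∀ a ∈ A, t * t * a ∈ A) {a : K} (ha : a ∈ A) (ha0 : a ≠ 0) (z : K) :
    z ∈ A := by
  have hsq : ∀ t : K, t * t * a ∈ A := fun t => by
    rcases eq_or_ne t 0 with rfl | ht
    · simp only [zero_mul]; exact A.zero_mem
    · exact hA t ht a ha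
  have h4 : z = (z / a + 1) / 2 * ((z / a + 1) / 2) * a - (z / a - 1) / 2 * ((z / a - 1) / 2) * a := by
    field_simp; ring
  rw [h4]
  exact A.sub_mem (hsq _) (hsq _)

theorem two_ne_zero_of_odd [Fintype K] (hK : Odd (Fintype.card K)) : (2 : K) ≠ 0 :=
  PSL2.two_ne_zero_iff_odd.2 (by rwa [Nat.card_eq_fintype_card])

/-- The element of trace `τ`. -/
def comp2 (τ : K) : SL2 K := ⟨!![0, -1; 1, τ], by simp [Matrix.det_fin_two]⟩

theorem tr_comp2 (τ : K) : tr (comp2 τ) = τ := by simp [tr, comp2]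

theorem three_le_orderOf_comp2 [Finite K] {τ : K} (h0 : τ ≠ 0) :
    3 ≤ orderOf (QuotientGroup.mk (comp2 τ) : PSL2 K) := by
  have h1 : (QuotientGroup.mk (comp2 τ) : PSL2 K) ≠ 1 := by
    rw [Ne, PSL2.mk_one_iff]
    rintro (h | h) <;> simpa [comp2] using congrArg (fun g : SL2 K => g.1 1 0) h
  have h2 : (QuotientGroup.mk (comp2 τ) : PSL2 K) ^ 2 ≠ 1 := by
    rw [← QuotientGroup.mk_pow, Ne, PSL2.mk_one_iff, pow_two]
    rintro (h | h) <;>
      have h' := congrArg (fun g : SL2 K => g.1 1 0) h <;>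
      simp only [Matrix.SpecialLinearGroup.coe_mul] at h' <;>
      exact h0 (by simpa [comp2, Matrix.mul_fin_two] using h')
  by_contra h
  push Not at h
  have hpos : 0 < orderOf (QuotientGroup.mk (comp2 τ) : PSL2 K) := orderOf_pos _
  have := pow_orderOf_eq_one (QuotientGroup.mk (comp2 τ) : PSL2 K)
  rcases (by omega : orderOf (QuotientGroup.mk (comp2 τ) : PSL2 K) = 1 ∨
    orderOf (QuotientGroup.mk (comp2 τ) : PSL2 K) = 2) with e | e
  · rw [e, pow_one] at this; exact h1 this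
  · rw [e] at this; exact h2 this

theorem companion_facts [Finite K] (p : ℕ) [Fact p.Prime] [CharP K p] {τ : K} (h4 : τ ^ 2 ≠ 4) :
    ¬ orderOf (QuotientGroup.mk (comp2 τ) : PSL2 K) ∣ p := fun h =>
  PSL2.mk_pow_char_ne_one (p := p) (by rw [tr_comp2]; exact h4) (orderOf_dvd_iff_pow_eq_one.1 h)

theorem exists_real [Fintype K] (p : ℕ) [Fact p.Prime] [CharP K p] {m : ℕ} (hm : ¬ m ∣ p)
    (h : m ∣ (Fintype.card K - 1) / Nat.gcd 2 (Fintype.card K - 1) ∨
      m ∣ (Fintype.card K + 1) / Nat.gcd 2 (Fintype.card K - 1)) :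
    ∃ x w : PSL2 K, orderOf x = m ∧ w * x * w⁻¹ = x⁻¹ := by
  obtain ⟨x, hx⟩ := PSL2.exists_psl_orderOf p (F := K) (m := m)
    (by rw [Nat.card_eq_fintype_card]; exact Or.inr h)
  obtain ⟨w, -, hw⟩ := PSL2.exists_inverting p (x := x) (by rwa [hx])
  exact ⟨x, w, hx, hw⟩

end Cfsg.Agent.Mitchell.Ident
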