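import Cfsg.Agent.Lib.Mitchell.Ident.OuterHom
import Cfsg.Agent.S2119

/-!
# Groups normalising a transvection-free `PSL₂(K)` or `A₇` in `SL₃(F)`

* `fix_sq` : the field part of an induced automorphism fixes the squares it is tested on;
* `inner_or_all` : the linear automorphisms induced are the inner ones or all of `PGL₂`;
* `outer_psl2_defining`, `outer_psl2_small`, `outer_psl2_nine`, `outer_altSeven`.
-/

set_option autoImplicit false
set_option linter.unusedSectionVars false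

namespace Cfsg.Agent.Mitchell.Ident

open Matrix
open Cfsg.Agent.PSL2 (SL2 PSL2 tr)

universe u

variable {F : Type u} [Field F] [Fintype F] {G G' : Subgroup (GL (Fin 3) F)}
variable {K : Type} [Field K] [Fintype K] {e : Sq G ≃* PSL2 K} {Ψ : Sq G' →* MulAut (PSL2 K)}

/-- The linear automorphisms of `PSL₂(K)`. -/
noncomputable def linAut (K : Type) [Field K] : GL (Fin 2) K →* MulAut (PSL2 K) :=
  MonoidHom.mk' (fun v => AutPSL.semi v (RingEquiv.refl K)) fun v w =>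
    (AutPSL.semi_refl_mul (m := 0) v w).symm

theorem linAut_apply (v : GL (Fin 2) K) : linAut K v = PSL2.outConj v := rfl

theorem ker_linAut : (linAut K).ker = Subgroup.center (GL (Fin 2) K) := by
  ext v
  rw [MonoidHom.mem_ker]
  exact (AutPSL.semi_eq_one_iff (m := 0)).trans (and_iff_right rfl)

theorem conj_mem_range (x : PSL2 K) : MulAut.conj x ∈ (linAut K).range := by
  obtain ⟨s, rfl⟩ := QuotientGroup.mk_surjective x
  refine ⟨Matrix.SpecialLinearGroup.toGL s, MulEquiv.ext fun y => ?_⟩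
  obtain ⟨t, rfl⟩ := QuotientGroup.mk_surjective y
  rw [linAut_apply, PSL2.outConj_mk _ (s := t) (s' := s * t * s⁻¹) ?_, MulAut.conj_apply]
  · rfl
  · show s.1 * t.1 = (s * t * s⁻¹).1 * s.1
    rw [← Matrix.SpecialLinearGroup.coe_mul, ← Matrix.SpecialLinearGroup.coe_mul,
      inv_mul_cancel_right]

theorem conj_injective (e : Sq G ≃* PSL2 K) (C : Ctx G) :
    Function.Injective (MulAut.conj : PSL2 K →* MulAut (PSL2 K)) := by
  refine (injective_iff_map_eq_one _).2 fun x hx => ?_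
  have h1 : e.symm x ∈ Subgroup.center (Sq G) := Subgroup.mem_center_iff.2 fun y => by
    have h := MulEquiv.congr_fun hx (e y)
    rw [MulAut.conj_apply, MulAut.one_apply, mul_inv_eq_iff_eq_mul] at h
    have h' := congrArg e.symm h
    rw [map_mul, map_mul, e.symm_apply_apply] at h'
    exact h'.symm
  rw [C.center_eq_bot, Subgroup.mem_bot, ← map_one e.symm] at h1
  exact e.symm.injective h1

theorem exists_semi (θ : MulAut (PSL2 K)) :
    ∃ v σ, θ = AutPSL.semi v σ :=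
  AutPSL.exists_semi_of_two (F := K) θ

theorem fix_sq (A : Acts e G' Ψ) (C : Ctx G) (p r₀ : ℕ) [Fact p.Prime] [CharP F p] [Fact r₀.Prime]
    [CharP K r₀] {y : Sq G'} {v : GL (Fin 2) K} {σ : K ≃+* K}
    (hy : Ψ y = AutPSL.semi v σ) {τ : K} (h0 : τ ≠ 0) (h4 : τ ^ 2 ≠ 4)
    (hn : ¬ p ∣ orderOf (QuotientGroup.mk (comp2 τ) : PSL2 K)) : σ (τ ^ 2) = τ ^ 2 := by
  set x : PSL2 K := QuotientGroup.mk (comp2 τ) with hx
  have hnp := companion_facts r₀ h4
  rw [← hx] at hnp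
  obtain ⟨w, -, hw⟩ := PSL2.exists_inverting r₀ hnp
  obtain ⟨h, rfl⟩ := QuotientGroup.mk'_surjective _ y
  obtain ⟨k₀, hk₀⟩ := PSL2.conj_zpowers r₀ hnp ((Ψ (pr G' h)).orderOf_eq x).symm
  obtain ⟨j, hj⟩ := Subgroup.mem_zpowers_iff.1 (hk₀.symm ▸ Subgroup.mem_zpowers (Ψ (pr G' h) x))
  rw [conj_zpow] at hj
  obtain ⟨g, hg⟩ := QuotientGroup.mk'_surjective _ (e.symm x)
  obtain ⟨a, ha⟩ := QuotientGroup.mk'_surjective _ (e.symm k₀)
  obtain ⟨g', hg', hgv⟩ := A.lift h g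
  have hgx : e (pr G g) = x := by rw [show pr G g = e.symm x from hg, e.apply_symm_apply]
  rw [hgx, ← hj] at hg'
  have hpr : pr G g' = pr G (a * g ^ j * a⁻¹) := by
    apply e.injective
    rw [show pr G (a * g ^ j * a⁻¹) = e.symm k₀ * e.symm x ^ j * (e.symm k₀)⁻¹ by
        rw [← show pr G g = e.symm x from hg, ← show pr G a = e.symm k₀ from ha, map_mul, map_mul,
          map_inv, map_zpow],
      map_mul, map_mul, map_inv, map_zpow, e.apply_symm_apply, e.apply_symm_apply, hg']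
  have hsc := pr_eq.1 hpr
  rw [Subgroup.coe_mul, Subgroup.coe_mul, Subgroup.coe_inv, SubgroupClass.coe_zpow, hgv] at hsc
  have hord : orderOf (pr G g) = orderOf x := by
    rw [show pr G g = e.symm x from hg, e.symm.orderOf_eq]
  have hj1 := real_conj C.sl (natCast_ne_zero p hn) hord (three_le_orderOf_comp2 h0)
    (w := e.symm w) (by rw [show pr G g = e.symm x from hg, ← map_inv, ← map_mul, ← map_mul, hw,
      map_inv]) hsc
  -- compare traces
  obtain ⟨m, hm, hmx⟩ : ∃ m : SL2 K, tr m = τ ∧ (QuotientGroup.mk m : PSL2 K) = x ^ j := by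
    rcases hj1 with h1 | h1
    · refine ⟨comp2 τ, tr_comp2 τ, ?_⟩
      rw [← hx]
      refine mul_inv_eq_one.1 ?_
      rw [← _root_.zpow_neg, ← _root_.zpow_one_add, ← orderOf_dvd_iff_zpow_eq_one]
      obtain ⟨c, hc⟩ := h1
      exact ⟨-c, by linear_combination -hc⟩
    · refine ⟨(comp2 τ)⁻¹, by rw [PSL2.tr_inv, tr_comp2], ?_⟩
      rw [QuotientGroup.mk_inv, ← hx]
      refine inv_eq_of_mul_eq_one_right ?_
      rw [← _root_.zpow_one_add, ← orderOf_dvd_iff_zpow_eq_one]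
      obtain ⟨c, hc⟩ := h1
      exact ⟨c, by linear_combination hc⟩
  obtain ⟨k, rfl⟩ := QuotientGroup.mk_surjective k₀
  have hsemi : AutPSL.semi v σ x = QuotientGroup.mk (AutPSL.semiSL v σ (comp2 τ)) :=
    AutPSL.semi_proj v σ (comp2 τ)
  rw [← hy, ← hj, ← hmx, ← QuotientGroup.mk_inv, ← QuotientGroup.mk_mul, ← QuotientGroup.mk_mul]
    at hsemi
  have htr : tr (AutPSL.semiSL v σ (comp2 τ)) = σ τ := by
    rw [PSL2.tr_eq_trace, AutPSL.semiSL_coe, Matrix.trace_units_conj]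
    simp [comp2, Matrix.trace_fin_two]
  rcases PSL2.mk_eq_mk_iff.1 hsemi with h1 | h1
  · have h2 := congrArg tr h1
    rw [PSL2.tr_conj, hm, htr] at h2
    rw [map_pow, ← h2]
  · have h2 := congrArg tr h1
    rw [PSL2.tr_conj, PSL2.tr_neg, hm, htr] at h2
    rw [map_pow]
    linear_combination (σ τ - τ) * h2

theorem sigma_eq_one (A : Acts e G' Ψ) (C : Ctx G) (p r₀ : ℕ) [Fact p.Prime] [CharP F p]
    [Fact r₀.Prime] [CharP K r₀] (hK : Odd (Fintype.card K))
    (hn : ∀ x : PSL2 K, ¬ orderOf x ∣ r₀ → ¬ p ∣ orderOf x) (y : Sq G') :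
    ∃ v, Ψ y = linAut K v := by
  obtain ⟨v, σ, hy⟩ := exists_semi (Ψ y)
  have h2 := two_ne_zero_of_odd hK
  have hall : ∀ τ : K, σ (τ ^ 2) = τ ^ 2 := fun τ => by
    rcases eq_or_ne τ 0 with rfl | h0
    · simp
    by_cases h4 : τ ^ 2 = 4
    · rw [h4, map_ofNat]
    exact fix_sq A C p r₀ hy h0 h4 (hn _ (companion_facts r₀ h4))
  have hσ : σ = RingEquiv.refl K := RingEquiv.ext fun z => by
    show σ z = z
    conv_lhs => rw [show z = ((z + 1) / 2) ^ 2 - ((z - 1) / 2) ^ 2 by field_simp; ring]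
    rw [map_sub, hall, hall]
    field_simp; ring
  exact ⟨v, hy.trans (by rw [hσ]; rfl)⟩

theorem inner_or_all (A : Acts e G' Ψ) (hlin : ∀ y, ∃ v, Ψ y = linAut K v) :
    (∀ y, ∃ x, Ψ y = MulAut.conj x) ∨ ∀ v, ∃ y, Ψ y = linAut K v := by
  by_contra h
  push Not at h
  obtain ⟨⟨y, hy⟩, v, hv⟩ := h
  obtain ⟨u, hu⟩ := hlin y
  have hinner : ∀ {w : GL (Fin 2) K}, IsSquare ((GeneralLinearGroup.det w : Kˣ) : K) →
      ∃ x, linAut K w = MulAut.conj x := fun hw => PSL2.exists_outConj_eq_conj hw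
  have hnsu : ¬ IsSquare ((GeneralLinearGroup.det u : Kˣ) : K) := fun hs => by
    obtain ⟨x, hx⟩ := hinner hs
    exact hy x (hu.trans hx)
  by_cases hsv : IsSquare ((GeneralLinearGroup.det v : Kˣ) : K)
  · obtain ⟨x, hx⟩ := hinner hsv
    obtain ⟨g, -, hg⟩ := A.inner x
    exact hv _ (hg.trans hx.symm)
  · obtain ⟨x, hx⟩ := hinner (PSL2.mul_mk_mem_range_iff u v hnsu hsv)
    obtain ⟨g, -, hg⟩ := A.inner x
    refine hv (y * pr G' g) ?_
    rw [map_mul, hu, hg, ← hx, ← map_mul, mul_inv_cancel_left]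

/-- A diagonal outer automorphism in `Ψ`, in terms of `G`. -/
theorem exists_diag_lift (A : Acts e G' Ψ) (hall : ∀ v, ∃ y, Ψ y = linAut K v) {g : K} (hg : g ≠ 0) :
    ∃ h : ↥G', ∀ w ∈ W e, ∀ a, pr G w = e.symm (U a) → ∃ w' ∈ W e, pr G w' = e.symm (U (g * a)) ∧
      (h : GL (Fin 3) F) * w * (h : GL (Fin 3) F)⁻¹ = w' := by
  obtain ⟨v, hv⟩ := outConj_diag hg
  obtain ⟨y, hy⟩ := hall v
  obtain ⟨h, rfl⟩ := QuotientGroup.mk'_surjective _ y
  refine ⟨h, fun w _ a hwa => ?_⟩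
  obtain ⟨w', hw', hwv⟩ := A.lift h w
  rw [hwa, e.apply_symm_apply, hy, linAut_apply, hv] at hw'
  have hw'' : pr G w' = e.symm (U (g * a)) := by rw [hw', e.symm_apply_apply]
  exact ⟨w', (mem_W e).2 ⟨_, hw''⟩, hw'', hwv.symm⟩

section Theorems

variable (p α : ℕ) [Fact p.Prime] (hp : p ≠ 2) (hF : Fintype.card F = p ^ α) (C : Ctx G)
  (hle : G ≤ G') (hsl : G' ≤ Cfsg.Geo.specialLinear (Fin 3) F)
  (hnorm : ∀ h ∈ G', ∀ x ∈ G, h * x * h⁻¹ ∈ G)
  (hcent : ∀ h ∈ G', (∀ x ∈ G, h * x * h⁻¹ * x⁻¹ ∈ Cfsg.Geo.scalars (Fin 3) F) →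
    h ∈ Cfsg.Geo.scalars (Fin 3) F)

include hle hnorm hcent C hF in
theorem outer_psl2_defining (hK : Odd (Fintype.card K)) (hK3 : 3 < Fintype.card K)
    (e : Sq G ≃* Matrix.ProjectiveSpecialLinearGroup (Fin 2) K) {β : ℕ}
    (hβ : Fintype.card K = p ^ β) :
    Nonempty (Sq G' ≃* Matrix.ProjectiveSpecialLinearGroup (Fin 2) K) ∨
      Nonempty (Sq G' ≃* (GL (Fin 2) K ⧸ Subgroup.center (GL (Fin 2) K))) := by
  haveI := charP_F p α hF
  haveI : CharP K p := charP_of_card_eq_prime_pow (f := β) hβ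
  obtain ⟨Ψ, A⟩ := exists_acts hle hnorm hcent (S := PSL2 K) e
  have hlin := sigma_eq_one A C p p hK fun x hx hd => by
    have hβ0 : β ≠ 0 := fun h => by rw [h, pow_zero] at hβ; omega
    obtain ⟨m, hm⟩ := dvd_pow_self p hβ0
    have hp2 : 2 ≤ p := (Fact.out : p.Prime).two_le
    rcases PSL2.psl_orderOf_cases p x with h | h | h
    · have h1 := (hd.trans h).trans (Nat.div_dvd_of_dvd (Nat.gcd_dvd_right _ _))
      rw [Nat.card_eq_fintype_card, hβ] at h1
      have h2 := Nat.dvd_sub (dvd_pow_self p hβ0) h1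
      rw [Nat.sub_sub_self (Nat.one_le_pow _ _ (by omega)), Nat.dvd_one] at h2
      omega
    · have h0 : Nat.gcd 2 (Nat.card K - 1) ∣ Nat.card K + 1 := by
        have hc : 1 < Nat.card K := Finite.one_lt_card
        have h' := Nat.dvd_add (Nat.gcd_dvd_right 2 (Nat.card K - 1)) (Nat.gcd_dvd_left 2 (Nat.card K - 1))
        rwa [show Nat.card K - 1 + 2 = Nat.card K + 1 by omega] at h'
      have h1 := (hd.trans h).trans (Nat.div_dvd_of_dvd h0)
      rw [Nat.card_eq_fintype_card, hβ] at h1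
      have h2 := (Nat.dvd_add_right (dvd_pow_self p hβ0)).1 h1
      rw [Nat.dvd_one] at h2
      omega
    · exact hx h
  rcases inner_or_all A hlin with h | h
  · left
    have hr : Ψ.range = (MulAut.conj : PSL2 K →* MulAut (PSL2 K)).range := le_antisymm
      (by rintro _ ⟨y, rfl⟩; obtain ⟨x, hx⟩ := h y; exact ⟨x, hx.symm⟩)
      (by rintro _ ⟨x, rfl⟩; obtain ⟨g, -, hg⟩ := A.inner x; exact ⟨_, hg⟩)
    exact ⟨(MonoidHom.ofInjective A.inj).trans
      ((MulEquiv.subgroupCongr hr).trans (MonoidHom.ofInjective (conj_injective e C)).symm)⟩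
  · right
    have hr : Ψ.range = (linAut K).range := le_antisymm
      (by rintro _ ⟨y, rfl⟩; obtain ⟨v, hv⟩ := hlin y; exact ⟨v, hv.symm⟩)
      (by rintro _ ⟨v, rfl⟩; obtain ⟨y, hy⟩ := h v; exact ⟨y, hy⟩)
    exact ⟨(MonoidHom.ofInjective A.inj).trans ((MulEquiv.subgroupCongr hr).trans
      ((QuotientGroup.quotientKerEquivRange (linAut K)).symm.trans
        (QuotientGroup.quotientMulEquivOfEq ker_linAut)))⟩

include hle hsl hnorm hcent C hF in
theorem outer_psl2_small (e : Sq G ≃* Matrix.ProjectiveSpecialLinearGroup (Fin 2) K)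
    (h57 : Fintype.card K = 5 ∨ Fintype.card K = 7) (hne : ∀ β, Fintype.card K ≠ p ^ β) : G' = G := by
  haveI := charP_F p α hF
  obtain ⟨r₀, hr₀⟩ : ∃ r₀, r₀ = Fintype.card K := ⟨_, rfl⟩
  have hr5 : r₀ = 5 ∨ r₀ = 7 := by omega
  haveI : Fact r₀.Prime := ⟨by rcases hr5 with h | h <;> rw [h] <;> norm_num⟩
  haveI : CharP K r₀ := charP_of_card_eq_prime_pow (f := 1) (by rw [pow_one, hr₀])
  obtain ⟨Ψ, A⟩ := exists_acts hle hnorm hcent (S := PSL2 K) e
  have hlin : ∀ y, ∃ v, Ψ y = linAut K v := fun y => by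
    obtain ⟨v, σ, hy⟩ := exists_semi (Ψ y)
    have h1 := (AutPSL.fieldAut_facts r₀ 1 le_rfl (F := K) (by rw [pow_one, hr₀])).2
    haveI : Subsingleton (K ≃+* K) := (Nat.card_eq_one_iff_unique.1 h1).1
    exact ⟨v, hy.trans (by rw [Subsingleton.elim σ (RingEquiv.refl K)]; rfl)⟩
  rcases inner_or_all A hlin with h | h
  · exact A.eq_of_inner C hle hsl h
  exfalso
  -- the multiplier `k` generates the units of the prime field
  obtain ⟨k, hk⟩ : ∃ k : ℕ, (r₀ = 5 ∧ k = 2) ∨ (r₀ = 7 ∧ k = 3) := by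
    rcases hr5 with h | h
    · exact ⟨2, Or.inl ⟨h, rfl⟩⟩
    · exact ⟨3, Or.inr ⟨h, rfl⟩⟩
  have hk0 : (k : K) ≠ 0 := fun h0 => by
    have := (CharP.cast_eq_zero_iff K r₀ k).1 h0
    rcases hk with ⟨rfl, rfl⟩ | ⟨rfl, rfl⟩ <;> norm_num at this
  obtain ⟨h', hh'⟩ := exists_diag_lift A h hk0
  obtain ⟨w, hw, hwa⟩ := exists_lift_U e (1 : K)
  obtain ⟨w', -, hw'a, hww'⟩ := hh' w hw 1 hwa
  have hord : orderOf (pr G w) = r₀ := by
    rw [hwa, MulEquiv.orderOf_eq]
    exact orderOf_eq_prime (by rw [← U_natCast, CharP.cast_eq_zero, U_zero]) (U_ne_one one_ne_zero)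
  have hpr : pr G w' = pr G (w ^ k) := by
    rw [map_pow, hwa, hw'a, ← map_pow, ← U_natCast, mul_one]
  have hrp : r₀ ≠ p := fun h0 => hne 1 (by rw [pow_one, ← hr₀, h0])
  have hn : (r₀ : F) ≠ 0 := natCast_ne_zero p fun hd =>
    hrp ((Nat.prime_dvd_prime_iff_eq Fact.out Fact.out).1 hd).symm
  obtain ⟨d, hd, hrel, -⟩ := eig_of C.sl hn hord
  obtain ⟨σ, hσ⟩ := hrel h' (k : ℤ) (by
    rw [hww', _root_.zpow_natCast, ← SubgroupClass.coe_pow]
    exact pr_eq.1 hpr)
  have := hσ.sq_or_cube hd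
  rcases hk with ⟨rfl, rfl⟩ | ⟨rfl, rfl⟩ <;> norm_num at this

include hle hsl hnorm hcent C hF hp in
theorem outer_psl2_nine (e : Sq G ≃* Matrix.ProjectiveSpecialLinearGroup (Fin 2) K)
    (h9 : Fintype.card K = 9) (hp3 : p ≠ 3) :
    G' = G ∨ (p = 5 ∧ (G.subgroupOf G').index = 2) := by
  haveI := charP_F p α hF
  haveI : Fact (Nat.Prime 3) := ⟨Nat.prime_three⟩
  haveI : CharP K 3 := charP_of_card_eq_prime_pow (f := 2) (by rw [h9]; norm_num)
  have hK : Odd (Fintype.card K) := by rw [h9]; decide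
  have h3F : (3 : F) ≠ 0 := by
    exact_mod_cast (natCast_ne_zero p fun hd =>
      hp3 ((Nat.prime_dvd_prime_iff_eq Fact.out Nat.prime_three).1 hd) : ((3 : ℕ) : F) ≠ 0)
  have h3K : (3 : K) = 0 := by exact_mod_cast CharP.cast_eq_zero K 3
  obtain ⟨Ψ, A⟩ := exists_acts hle hnorm hcent (S := PSL2 K) e
  have hlin_inner : ∀ y v, Ψ y = linAut K v → ∃ x, Ψ y = MulAut.conj x := by
    intro y v hy
    by_contra hcon
    push Not at hcon
    -- then every linear automorphism would be induced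
    have hall : ∀ w, ∃ y, Ψ y = linAut K w := by
      intro w
      by_contra hw
      push Not at hw
      have hnsv : ¬ IsSquare ((GeneralLinearGroup.det v : Kˣ) : K) := fun hs => by
        obtain ⟨x, hx⟩ := PSL2.exists_outConj_eq_conj hs
        exact hcon x (hy.trans hx)
      by_cases hsw : IsSquare ((GeneralLinearGroup.det w : Kˣ) : K)
      · obtain ⟨x, hx⟩ := PSL2.exists_outConj_eq_conj hsw
        obtain ⟨g, -, hg⟩ := A.inner x
        exact hw _ (hg.trans hx.symm)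
      · obtain ⟨x, hx⟩ := PSL2.exists_outConj_eq_conj (PSL2.mul_mk_mem_range_iff v w hnsv hsw)
        obtain ⟨g, -, hg⟩ := A.inner x
        refine hw (y * pr G' g) ?_
        rw [map_mul, hy, hg, ← hx, ← linAut_apply, ← map_mul, mul_inv_cancel_left]
    obtain ⟨i, -, hi⟩ := exists_sq_neg_one h9
    have hg : (2 + 2 * i) * (2 + 2 * i) = (2 + 2 * i) + 1 := by
      linear_combination (4 : K) * hi + (2 * i - 1) * h3K
    have hg0 : (2 + 2 * i : K) ≠ 0 := fun h0 => by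
      rw [h0, mul_zero, zero_add] at hg; exact zero_ne_one hg
    obtain ⟨h', hh'⟩ := exists_diag_lift A hall hg0
    refine no_delta e C.sl hK h3F h3K h9 hg (h := h') fun w hw a hwa => ?_
    obtain ⟨w', hw', hwa', hww'⟩ := hh' w hw a hwa
    exact ⟨w', hw', hwa', by rw [hww', mul_inv_cancel]; exact one_mem _⟩
  have hcard := (AutPSL.fieldAut_facts 3 2 (by norm_num) (F := K) (by rw [h9]; norm_num)).2
  by_cases hall : ∀ y, ∃ x, Ψ y = MulAut.conj x
  · exact Or.inl (A.eq_of_inner C hle hsl hall)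
  push Not at hall
  obtain ⟨y, hy⟩ := hall
  right
  refine ⟨?_, ?_⟩
  · by_contra hp5
    obtain ⟨v, hv⟩ := sigma_eq_one A C p 3 hK (fun x hx hd => by
      have hpp := (Fact.out : p.Prime)
      rcases PSL2.psl_orderOf_cases 3 x with h | h | h
      · rw [Nat.card_eq_fintype_card, h9] at h
        have := (Nat.prime_dvd_prime_iff_eq hpp Nat.prime_two).1
          (hpp.dvd_of_dvd_pow (show p ∣ 2 ^ 2 from hd.trans (by simpa using h)))
        exact hp this
      · rw [Nat.card_eq_fintype_card, h9] at h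
        have h5 : p ∣ 5 := hd.trans (by simpa using h)
        exact hp5 ((Nat.prime_dvd_prime_iff_eq hpp Nat.prime_five).1 h5)
      · exact hx h) y
    obtain ⟨x, hx⟩ := hlin_inner y v hv
    exact hy x hx
  · -- all outer elements induce the same field automorphism
    obtain ⟨a, ha⟩ := QuotientGroup.mk'_surjective _ y
    subst ha
    rw [Subgroup.index_eq_two_iff]
    refine ⟨a, fun b => ?_⟩
    rw [Subgroup.mem_subgroupOf, Subgroup.mem_subgroupOf]
    have hna : (a : GL (Fin 3) F) ∉ G := fun h => by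
      obtain ⟨v, hv⟩ : ∃ x, Ψ (pr G' a) = MulAut.conj x := by
        obtain ⟨g, hg⟩ : ∃ g : ↥G, (g : GL (Fin 3) F) = a := ⟨⟨a, h⟩, rfl⟩
        refine ⟨e (pr G g), MulEquiv.ext fun z => ?_⟩
        obtain ⟨k, hk⟩ := QuotientGroup.mk'_surjective _ (e.symm z)
        obtain ⟨k', hk', hk'v⟩ := A.lift a k
        rw [show pr G k = e.symm z from hk] at hk'
        change (Ψ (pr G' a)) (e (e.symm z)) = _ at hk'
        rw [e.apply_symm_apply] at hk'
        rw [hk', show k' = g * k * g⁻¹ from Subtype.ext (by simp [hk'v, hg]), map_mul, map_mul,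
          map_mul, map_mul, map_inv, map_inv, show pr G k = e.symm z from hk]
        show _ * e (e.symm z) * _ = _
        rw [e.apply_symm_apply]
        rfl
      exact hy v hv
    by_cases hb : (b : GL (Fin 3) F) ∈ G
    · refine Or.inr ⟨hb, fun h => hna ?_⟩
      rw [Subgroup.coe_mul] at h
      simpa using mul_mem (inv_mem hb) h
    · refine Or.inl ⟨?_, hb⟩
      obtain ⟨va, σa, hva⟩ := exists_semi (Ψ (pr G' a))
      obtain ⟨vb, σb, hvb⟩ := exists_semi (Ψ (pr G' b))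
      have hout : ∀ {c : ↥G'} {vc : GL (Fin 2) K} {σc : K ≃+* K}, Ψ (pr G' c) = AutPSL.semi vc σc →
          (c : GL (Fin 3) F) ∉ G → σc ≠ RingEquiv.refl K := by
        intro c vc σc hc hcG hσ
        obtain ⟨x, hx⟩ := hlin_inner _ vc (hc.trans (by rw [hσ]; rfl))
        exact hcG (A.exists_g C hle hsl hx)
      have hσab : σa.trans σb = RingEquiv.refl K := by
        obtain ⟨θ, -, huniq⟩ := (Nat.card_eq_two_iff' (RingEquiv.refl K)).1 hcard
        have e1 : σa = θ := huniq σa (hout hva hna)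
        have e2 : σb = θ := huniq σb (hout hvb hb)
        have e3 : θ ≠ RingEquiv.refl K := e1 ▸ hout hva hna
        by_contra h3
        have e4 := huniq (σa.trans σb) h3
        rw [e1, e2] at e4
        exact e3 (RingEquiv.ext fun z => θ.injective (RingEquiv.congr_fun e4 z))
      have hba : Ψ (pr G' (b * a)) =
          linAut K (vb * Matrix.GeneralLinearGroup.map (σb : K →+* K) va) := by
        rw [map_mul, map_mul, hva, hvb, AutPSL.semi_mul, hσab]
        rfl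
      obtain ⟨x, hx⟩ := hlin_inner _ _ hba
      exact A.exists_g C hle hsl hx

end Theorems

section Alt

open Equiv

set_option maxRecDepth 40000 in
set_option maxHeartbeats 4000000 in
theorem seven_cube : ∃ (x : alternatingGroup (Fin 7)) (t : Perm (Fin 7)), Perm.sign t = -1 ∧
    x ^ 7 = 1 ∧ x ≠ 1 ∧ MulAut.conjNormal t x = x ^ 3 := by
  refine ⟨⟨c[(0 : Fin 7), 1, 2, 3, 4, 5, 6], ?_⟩, c[(1 : Fin 7), 3, 2, 6, 4, 5], ?_, ?_, ?_, ?_⟩
  · rw [Perm.mem_alternatingGroup]; decide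
  · decide
  · decide
  · decide
  · refine Subtype.ext ?_
    rw [MulAut.conjNormal_apply, SubgroupClass.coe_pow]
    decide

variable (p α : ℕ) [Fact p.Prime] (hp : p ≠ 2) (hF : Fintype.card F = p ^ α) (C : Ctx G)
  (hle : G ≤ G') (hsl : G' ≤ Cfsg.Geo.specialLinear (Fin 3) F)
  (hnorm : ∀ h ∈ G', ∀ x ∈ G, h * x * h⁻¹ ∈ G)
  (hcent : ∀ h ∈ G', (∀ x ∈ G, h * x * h⁻¹ * x⁻¹ ∈ Cfsg.Geo.scalars (Fin 3) F) →
    h ∈ Cfsg.Geo.scalars (Fin 3) F)

include hp hle hsl hnorm hcent C hF in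
theorem outer_altSeven (e7 : Sq G ≃* alternatingGroup (Fin 7)) : G' = G := by
  haveI := charP_F p α hF
  obtain ⟨hp5, -⟩ := ident_altSeven p α hp hF C e7
  obtain ⟨Ψ, A⟩ := exists_acts hle hnorm hcent e7
  refine A.eq_of_inner C hle hsl fun y => ?_
  obtain ⟨σ, hσ⟩ := (S2119.result 7 (by norm_num) (by norm_num)).2 (Ψ y)
  rcases Int.units_eq_one_or (Perm.sign σ) with h | h
  · refine ⟨⟨σ, Perm.mem_alternatingGroup.2 h⟩, ?_⟩
    rw [← hσ, ← MulAut.conjNormal_val]
  exfalso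
  obtain ⟨x, t, ht, hx7, hx1, htx⟩ := seven_cube
  have hev : σ⁻¹ * t ∈ alternatingGroup (Fin 7) := by
    rw [Perm.mem_alternatingGroup, map_mul, map_inv, h, ht]; rfl
  obtain ⟨g₀, -, hg₀⟩ := A.inner ⟨σ⁻¹ * t, hev⟩
  obtain ⟨a, ha⟩ := QuotientGroup.mk'_surjective _ (y * pr G' g₀)
  have hat : Ψ (pr G' a) = MulAut.conjNormal t := by
    rw [show pr G' a = y * pr G' g₀ from ha, map_mul, hg₀, ← hσ, ← MulAut.conjNormal_val, ← map_mul]
    congr 1
    simp
  obtain ⟨g, hg⟩ := QuotientGroup.mk'_surjective _ (e7.symm x)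
  obtain ⟨g', hg', hgv⟩ := A.lift a g
  have hgx : pr G g = e7.symm x := hg
  rw [hat, hgx, e7.apply_symm_apply, htx] at hg'
  have hpr : pr G g' = pr G (g ^ 3) := by
    apply e7.injective
    rw [← hg', map_pow, hgx, map_pow, e7.apply_symm_apply]
  haveI : Fact (Nat.Prime 7) := ⟨by norm_num⟩
  have hn : ((7 : ℕ) : F) ≠ 0 := natCast_ne_zero p (by rw [hp5]; norm_num)
  obtain ⟨d, hd, hrel, -⟩ := eig_of C.sl hn (g := g)
    (by rw [hgx, e7.symm.orderOf_eq]; exact orderOf_eq_prime hx7 hx1)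
  obtain ⟨τ, hτ⟩ := hrel a ((3 : ℕ) : ℤ) (by
    rw [← hgv, _root_.zpow_natCast, ← SubgroupClass.coe_pow]
    exact pr_eq.1 hpr)
  have := hτ.sq_or_cube hd
  norm_num at this

end Alt

end Cfsg.Agent.Mitchell.Ident
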