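import Cfsg.Agent.Lib.Mitchell.Ident.Psl

/-!
# A group normalising `G` acts on `G` modulo scalars

* `exists_conj_hom` : the action of `G'` modulo scalars on `G` modulo scalars, faithful;
* `Acts` : its transport to an isomorphic copy, with the facts used later;
* `Acts.eq_of_inner` : if only inner automorphisms occur then `G' = G`.
-/

set_option autoImplicit false
set_option linter.unusedSectionVars false

namespace Cfsg.Agent.Mitchell.Ident

universe u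

variable {F : Type u} [Field F] {G G' : Subgroup (GL (Fin 3) F)}

theorem exists_conj_hom (hnorm : ∀ h ∈ G', ∀ x ∈ G, h * x * h⁻¹ ∈ G)
    (hcent : ∀ h ∈ G', (∀ x ∈ G, h * x * h⁻¹ * x⁻¹ ∈ Cfsg.Geo.scalars (Fin 3) F) →
      h ∈ Cfsg.Geo.scalars (Fin 3) F) :
    ∃ Φ : Sq G' →* MulAut (Sq G), Function.Injective Φ ∧
      ∀ (h : ↥G') (g : ↥G), Φ (pr G' h) (pr G g) =
        pr G ⟨(h : GL (Fin 3) F) * g * (h : GL (Fin 3) F)⁻¹, hnorm h h.2 g g.2⟩ := by
  have hconj : ∀ (h : GL (Fin 3) F) {s : GL (Fin 3) F}, s ∈ Cfsg.Geo.scalars (Fin 3) F →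
      h * s * h⁻¹ = s := fun h s hs => by rw [← scalar_central hs, mul_inv_cancel_right]
  let c : ↥G' → ↥G →* ↥G := fun h =>
    { toFun := fun g => ⟨(h : GL (Fin 3) F) * g * (h : GL (Fin 3) F)⁻¹, hnorm h h.2 g g.2⟩
      map_one' := Subtype.ext (by simp)
      map_mul' := fun a b => Subtype.ext (by simp [mul_assoc]) }
  have hc : ∀ h, (Cfsg.Geo.scalars (Fin 3) F).subgroupOf G ≤
      ((Cfsg.Geo.scalars (Fin 3) F).subgroupOf G).comap (c h) := by
    intro h g hg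
    rw [Subgroup.mem_comap, Subgroup.mem_subgroupOf]
    show (h : GL (Fin 3) F) * g * (h : GL (Fin 3) F)⁻¹ ∈ _
    rw [hconj h (Subgroup.mem_subgroupOf.1 hg)]
    exact Subgroup.mem_subgroupOf.1 hg
  let f : ↥G' → Sq G →* Sq G := fun h => QuotientGroup.map _ _ (c h) (hc h)
  have hf : ∀ h g, f h (pr G g) = pr G (c h g) := fun h g => rfl
  have hmul : ∀ h k x, f (h * k) x = f h (f k x) := by
    intro h k x
    obtain ⟨g, rfl⟩ := QuotientGroup.mk'_surjective _ x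
    rw [hf, hf, hf]
    exact congrArg _ (Subtype.ext (by simp [c, mul_assoc]))
  have hone : ∀ x, f 1 x = x := by
    intro x
    obtain ⟨g, rfl⟩ := QuotientGroup.mk'_surjective _ x
    rw [hf]
    exact congrArg _ (Subtype.ext (by simp [c]))
  let Φ₀ : ↥G' →* MulAut (Sq G) := MonoidHom.mk' (fun h =>
    { toFun := f h
      invFun := f h⁻¹
      left_inv := fun x => by rw [← hmul, inv_mul_cancel, hone]
      right_inv := fun x => by rw [← hmul, mul_inv_cancel, hone]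
      map_mul' := map_mul (f h) }) fun h k => MulEquiv.ext fun x => hmul h k x
  have hker : Φ₀.ker = (Cfsg.Geo.scalars (Fin 3) F).subgroupOf G' := by
    ext h
    rw [MonoidHom.mem_ker, Subgroup.mem_subgroupOf]
    constructor
    · intro hh
      refine hcent h h.2 fun x hx => ?_
      have := MulEquiv.congr_fun hh (pr G ⟨x, hx⟩)
      exact pr_eq.1 this
    · intro hh
      refine MulEquiv.ext fun x => ?_
      obtain ⟨g, rfl⟩ := QuotientGroup.mk'_surjective _ x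
      refine congrArg _ (Subtype.ext ?_)
      show (h : GL (Fin 3) F) * g * (h : GL (Fin 3) F)⁻¹ = g
      rw [scalar_central hh, mul_inv_cancel_right]
  refine ⟨QuotientGroup.lift _ Φ₀ hker.ge, ?_, fun h g => rfl⟩
  intro x y hxy
  obtain ⟨a, rfl⟩ := QuotientGroup.mk'_surjective _ x
  obtain ⟨b, rfl⟩ := QuotientGroup.mk'_surjective _ y
  refine (QuotientGroup.eq_iff_div_mem.2 ?_)
  rw [← hker, MonoidHom.mem_ker, map_div, div_eq_one]
  exact hxy

/-- The action of `G'` on a copy `S` of `G` modulo scalars. -/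
structure Acts {S : Type} [Group S] (e : Sq G ≃* S) (G' : Subgroup (GL (Fin 3) F))
    (Ψ : Sq G' →* MulAut S) : Prop where
  inj : Function.Injective Ψ
  lift : ∀ (h : ↥G') (g : ↥G), ∃ g' : ↥G, Ψ (pr G' h) (e (pr G g)) = e (pr G g') ∧
    (g' : GL (Fin 3) F) = (h : GL (Fin 3) F) * g * (h : GL (Fin 3) F)⁻¹
  inner : ∀ x : S, ∃ g : ↥G', (g : GL (Fin 3) F) ∈ G ∧ Ψ (pr G' g) = MulAut.conj x

theorem exists_acts (hle : G ≤ G') (hnorm : ∀ h ∈ G', ∀ x ∈ G, h * x * h⁻¹ ∈ G)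
    (hcent : ∀ h ∈ G', (∀ x ∈ G, h * x * h⁻¹ * x⁻¹ ∈ Cfsg.Geo.scalars (Fin 3) F) →
      h ∈ Cfsg.Geo.scalars (Fin 3) F)
    {S : Type} [Group S] (e : Sq G ≃* S) : ∃ Ψ, Acts e G' Ψ := by
  obtain ⟨Φ, hinj, hΦ⟩ := exists_conj_hom hnorm hcent
  refine ⟨(MulAut.congr e).toMonoidHom.comp Φ, ⟨(MulAut.congr e).injective.comp hinj,
    fun h g => ⟨⟨(h : GL (Fin 3) F) * g * (h : GL (Fin 3) F)⁻¹, hnorm h h.2 g g.2⟩, ?_, rfl⟩, fun x => ?_⟩⟩
  · show e (Φ (pr G' h) (e.symm (e (pr G g)))) = _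
    rw [MulEquiv.symm_apply_apply, hΦ]
  · obtain ⟨g, hg⟩ := QuotientGroup.mk'_surjective _ (e.symm x)
    refine ⟨⟨g, hle g.2⟩, g.2, MulEquiv.ext fun y => ?_⟩
    obtain ⟨k, hk⟩ := QuotientGroup.mk'_surjective _ (e.symm y)
    show e (Φ (pr G' ⟨g, hle g.2⟩) (e.symm y)) = _
    rw [← hk, hΦ]
    show e (pr G (g * k * g⁻¹)) = _
    rw [show pr G (g * k * g⁻¹) = e.symm x * e.symm y * (e.symm x)⁻¹ by rw [← hg, ← hk]; rfl,
      map_mul, map_mul, map_inv, e.apply_symm_apply, e.apply_symm_apply, MulAut.conj_apply]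

namespace Acts

variable {S : Type} [Group S] {e : Sq G ≃* S} {Ψ : Sq G' →* MulAut S}

theorem exists_g (A : Acts e G' Ψ) (C : Ctx G) (hle : G ≤ G')
    (hsl : G' ≤ Cfsg.Geo.specialLinear (Fin 3) F) {h : ↥G'} {x : S}
    (hh : Ψ (pr G' h) = MulAut.conj x) : (h : GL (Fin 3) F) ∈ G := by
  obtain ⟨g, hg, hgx⟩ := A.inner x
  have hs := pr_eq.1 (A.inj (hh.trans hgx.symm))
  have h1 : (h : GL (Fin 3) F) * (g : GL (Fin 3) F)⁻¹ ∈ G :=
    C.hz (Subgroup.mem_inf.2 ⟨hs, mul_mem (hsl h.2) (inv_mem (hsl g.2))⟩)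
  simpa using mul_mem h1 hg

theorem eq_of_inner (A : Acts e G' Ψ) (C : Ctx G) (hle : G ≤ G')
    (hsl : G' ≤ Cfsg.Geo.specialLinear (Fin 3) F) (h : ∀ y, ∃ x, Ψ y = MulAut.conj x) : G' = G := by
  refine le_antisymm (fun k hk => ?_) hle
  obtain ⟨x, hx⟩ := h (pr G' ⟨k, hk⟩)
  exact A.exists_g C hle hsl hx

end Acts

end Cfsg.Agent.Mitchell.Ident
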