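import Cfsg.Agent.Lib.Mitchell.Ident.Field

/-!
# Which `PSL₂(K)` and whether `A₇` occur without transvections

* `ident_psl2` : the possible orders of `K`, with congruences on `|F|`;
* `ident_altSeven` : `A₇` only in characteristic five, over a field of square order.
-/

set_option autoImplicit false
set_option linter.unusedSectionVars false

namespace Cfsg.Agent.Mitchell.Ident

open Cfsg.Agent.PSL2 (SL2 PSL2)

universe u

variable {F : Type u} [Field F] [Fintype F] (p α : ℕ) [Fact p.Prime] (hp : p ≠ 2)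
  (hF : Fintype.card F = p ^ α) {G : Subgroup (GL (Fin 3) F)} (C : Ctx G)

omit [Fintype F] in
theorem natCast_ne_zero [CharP F p] {n : ℕ} (h : ¬ p ∣ n) : (n : F) ≠ 0 := fun e =>
  h ((CharP.cast_eq_zero_iff F p n).1 e)

include hF in
theorem charP_F : CharP F p := by
  haveI : Fact (0 < α) := ⟨Nat.pos_of_ne_zero fun h => by
    have := Fintype.one_lt_card (α := F); rw [hF, h] at this; simp at this⟩
  exact charP_of_card_eq_prime_pow (f := α) hF

section PSL

variable {K : Type} [Field K] [Fintype K] (e : Sq G ≃* PSL2 K)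

/-- A square prime-field element gives an automiser of the root group. -/
theorem dvd_of_isSquare [CharP F p] (r₀ : ℕ) [Fact r₀.Prime] [CharP K r₀] (hr : r₀ ≠ p) (k : ℕ)
    (hk : ¬ r₀ ∣ k) (hs : IsSquare (k : K)) (e : Sq G ≃* PSL2 K) (hsl : G ≤ Cfsg.Geo.specialLinear (Fin 3) F) :
    (r₀ : ℤ) ∣ (k : ℤ) * k - 1 ∨ (r₀ : ℤ) ∣ (k : ℤ) * k * k - 1 := by
  have hrp : ¬ p ∣ r₀ := fun h =>
    hr ((Nat.prime_dvd_prime_iff_eq Fact.out Fact.out).1 h).symm
  have hk0 : (k : K) ≠ 0 := fun h => hk ((CharP.cast_eq_zero_iff K r₀ k).1 h)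
  obtain ⟨w, hw⟩ := conj_U_sq hk0 hs
  have hord : orderOf (e.symm (U (1 : K))) = r₀ := by
    rw [e.symm.orderOf_eq]
    refine orderOf_eq_prime ?_ (U_ne_one one_ne_zero)
    rw [← U_natCast, CharP.cast_eq_zero, U_zero]
  refine sq_or_cube hsl (natCast_ne_zero p hrp) hord (w := e.symm w) (k := (k : ℤ)) ?_
  rw [_root_.zpow_natCast, ← map_inv, ← map_mul, ← map_mul, hw 1, mul_one, ← map_pow, U_natCast]

theorem isSquare_natCast_of_even (r₀ γ : ℕ) [Fact r₀.Prime] [CharP K r₀] (hr2 : r₀ ≠ 2)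
    (hcard : Fintype.card K = r₀ ^ γ) (hγ : Even γ) (k : ℕ) : IsSquare (k : K) := by
  rcases eq_or_ne (k : K) 0 with h | h
  · exact ⟨0, by rw [h, zero_mul]⟩
  have h2 : ringChar K ≠ 2 := by rwa [ringChar.eq K r₀]
  rw [FiniteField.isSquare_iff h2 h]
  obtain ⟨j, rfl⟩ := hγ
  obtain ⟨i, hi⟩ : 2 ∣ r₀ + 1 := by
    rcases (Fact.out : r₀.Prime).eq_two_or_odd with h' | h'
    · exact absurd h' hr2
    · omega
  have hr1 : 1 ≤ r₀ := (Fact.out : r₀.Prime).one_lt.le
  obtain ⟨c, hc⟩ : r₀ ^ 2 - 1 ∣ Fintype.card K - 1 := by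
    rw [hcard, ← two_mul, pow_mul]
    simpa using Nat.sub_dvd_pow_sub_pow (r₀ ^ 2) 1 j
  have hdvd : r₀ - 1 ∣ Fintype.card K / 2 := by
    refine ⟨i * c, ?_⟩
    have e1 : r₀ ^ 2 - 1 = (r₀ - 1) * (r₀ + 1) := by
      rw [mul_comm, ← Nat.sq_sub_sq, one_pow]
    rw [e1, hi] at hc
    have hpos := Fintype.card_pos (α := K)
    have : Fintype.card K = 2 * ((r₀ - 1) * (i * c)) + 1 := by
      have : Fintype.card K = (r₀ - 1) * (2 * i) * c + 1 := by omega
      rw [this]; ring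
    omega
  obtain ⟨c', hc'⟩ := hdvd
  have hk : (k : ZMod r₀) ≠ 0 := fun h' => h
    ((CharP.cast_eq_zero_iff K r₀ k).2 ((CharP.cast_eq_zero_iff (ZMod r₀) r₀ k).1 h'))
  have h1 : (k : K) ^ (r₀ - 1) = 1 := by
    have h3 := congrArg (ZMod.castHom (dvd_refl r₀) K) (ZMod.pow_card_sub_one_eq_one hk)
    rwa [map_pow, map_natCast, map_one] at h3
  rw [hc', pow_mul, h1, one_pow]

include C hp hF in
theorem ident_psl2 (hK : Odd (Fintype.card K)) (hK3 : 3 < Fintype.card K)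
    (e : Sq G ≃* Matrix.ProjectiveSpecialLinearGroup (Fin 2) K) :
    (∃ β, Fintype.card K = p ^ β ∧ β ∣ α) ∨
      (Fintype.card K = 5 ∧ (p ^ α % 10 = 1 ∨ p ^ α % 10 = 9)) ∨
      (Fintype.card K = 7 ∧ (p ^ α) ^ 3 % 7 = 1) ∨
      (Fintype.card K = 9 ∧ ((p = 5 ∧ Even α) ∨ p ^ α % 30 = 1 ∨ p ^ α % 30 = 19)) := by
  classical
  haveI := charP_F p α hF
  obtain ⟨r₀, hr₀⟩ := CharP.exists K
  obtain ⟨⟨γ, hγ0⟩, hr₀p, hcard⟩ := FiniteField.card K r₀
  simp only [PNat.mk_coe] at hcard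
  haveI : Fact r₀.Prime := ⟨hr₀p⟩
  by_cases hrp : r₀ = p
  · subst hrp
    obtain ⟨ψ⟩ := exists_ringHom r₀ e C.sl C.efree hK
    refine Or.inl ⟨γ, hcard, ?_⟩
    letI : Algebra K F := ψ.toAlgebra
    have h := Module.card_eq_pow_finrank (K := K) (V := F)
    rw [hF, hcard, ← pow_mul] at h
    exact ⟨_, Nat.pow_right_injective hr₀p.two_le h⟩
  have hr2 : r₀ ≠ 2 := fun h => by
    subst h
    rw [hcard, Nat.odd_pow_iff hγ0.ne'] at hK
    exact absurd hK (by decide)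
  have hpr : ¬ p ∣ r₀ := fun h => hrp ((Nat.prime_dvd_prime_iff_eq Fact.out hr₀p).1 h).symm
  have hq : Odd (p ^ α) := ((Fact.out : p.Prime).odd_of_ne_two hp).pow
  have key : r₀ = 3 ∧ γ = 2 ∨ (γ = 1 ∧ (r₀ = 5 ∨ r₀ = 7)) := by
    by_cases h3 : r₀ = 3
    · subst h3
      have h3F : ((3 : ℕ) : F) ≠ 0 := natCast_ne_zero p hpr
      have h9 := card_le_nine e C.sl hK (by exact_mod_cast h3F)
        (by exact_mod_cast CharP.cast_eq_zero K 3)
      rw [hcard] at h9 hK3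
      left
      refine ⟨rfl, ?_⟩
      have h1 : γ ≤ 2 := (Nat.pow_le_pow_iff_right (a := 3) (by norm_num)).1 (by simpa using h9)
      have h2 : 1 < γ := (Nat.pow_lt_pow_iff_right (a := 3) (by norm_num)).1 (by simpa using hK3)
      omega
    have h5 : 5 ≤ r₀ := by
      have := hr₀p.two_le
      by_contra h
      interval_cases r₀ <;> first | contradiction | norm_num at hr₀p
    have hdvd : ∀ {c : ℕ}, (r₀ : ℤ) ∣ (c : ℤ) → r₀ ∣ c := fun h => Int.natCast_dvd_natCast.1 h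
    by_cases hev : Even γ
    · exfalso
      have h2 := dvd_of_isSquare p r₀ hrp 2
        (fun h => hr2 ((Nat.prime_dvd_prime_iff_eq hr₀p Nat.prime_two).1 h))
        (isSquare_natCast_of_even r₀ γ hr2 hcard hev 2) e C.sl
      norm_num at h2
      have h7 : r₀ = 7 := by
        rcases h2 with h | h
        · exact absurd ((Nat.prime_dvd_prime_iff_eq hr₀p Nat.prime_three).1 (hdvd h)) h3
        · exact (Nat.prime_dvd_prime_iff_eq hr₀p (by norm_num)).1 (hdvd h)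
      subst h7
      have h3' := dvd_of_isSquare p 7 hrp 3 (by norm_num)
        (isSquare_natCast_of_even 7 γ hr2 hcard hev 3) e C.sl
      norm_num at h3'
    · have h4 := dvd_of_isSquare p r₀ hrp 4
        (fun h => hr2 ((Nat.prime_dvd_prime_iff_eq hr₀p Nat.prime_two).1
          (hr₀p.dvd_of_dvd_pow (show r₀ ∣ 2 ^ 2 from h))))
        ⟨2, by norm_num⟩ e C.sl
      norm_num at h4
      have h57 : r₀ = 5 ∨ r₀ = 7 := by
        rcases h4 with h | h
        · rcases hr₀p.dvd_mul.1 (show r₀ ∣ 3 * 5 from hdvd h) with h' | h'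
          · exact absurd ((Nat.prime_dvd_prime_iff_eq hr₀p Nat.prime_three).1 h') h3
          · exact Or.inl ((Nat.prime_dvd_prime_iff_eq hr₀p Nat.prime_five).1 h')
        · rcases hr₀p.dvd_mul.1 (show r₀ ∣ 9 * 7 from hdvd h) with h' | h'
          · exact absurd ((Nat.prime_dvd_prime_iff_eq hr₀p Nat.prime_three).1
              (hr₀p.dvd_of_dvd_pow (show r₀ ∣ 3 ^ 2 from h'))) h3
          · exact Or.inr ((Nat.prime_dvd_prime_iff_eq hr₀p (by norm_num)).1 h')
      have hn : (r₀ : F) ≠ 0 := natCast_ne_zero p hpr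
      have hle := card_le_sq e C.sl hn (CharP.cast_eq_zero K r₀)
        (comm_W e C.sl ((Nat.coprime_primes hr₀p Nat.prime_three).2 h3) (CharP.cast_eq_zero K r₀))
      rw [hcard] at hle
      have hγ2 := (Nat.pow_le_pow_iff_right hr₀p.two_le).1 hle
      refine Or.inr ⟨?_, h57⟩
      interval_cases γ
      · rfl
      · exact absurd (by decide) hev
  have five : ∀ x w : PSL2 K, orderOf x = 5 → w * x * w⁻¹ = x⁻¹ → p ≠ 5 →
      p ^ α % 5 = 1 ∨ p ^ α % 5 = 4 := by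
    intro x w hx hw hp5
    have hn : ((5 : ℕ) : F) ≠ 0 := natCast_ne_zero p fun h =>
      hp5 ((Nat.prime_dvd_prime_iff_eq Fact.out Nat.prime_five).1 h)
    have h := real_frob C.sl hn (x := e.symm x) (w := e.symm w)
      (by rw [e.symm.orderOf_eq, hx]) (by norm_num)
      (by rw [← map_inv, ← map_mul, ← map_mul, hw, map_inv])
    rw [hF] at h
    omega
  rcases key with ⟨rfl, rfl⟩ | ⟨rfl, rfl | rfl⟩
  · refine Or.inr (Or.inr (Or.inr ⟨by simpa using hcard, ?_⟩))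
    have h9 : Fintype.card K = 9 := by simpa using hcard
    have h3F : ((3 : ℕ) : F) ≠ 0 := natCast_ne_zero p hpr
    have hω := omega_nine e C.sl (by exact_mod_cast h3F) (by exact_mod_cast CharP.cast_eq_zero K 3) h9
    rw [hF] at hω
    by_cases hp5 : p = 5
    · left
      refine ⟨hp5, ?_⟩
      subst hp5
      by_contra hodd
      obtain ⟨j, hj⟩ := Nat.not_even_iff_odd.1 hodd
      have : 5 ^ α % 3 = 2 := by
        rw [hj, pow_succ, pow_mul, Nat.mul_mod, Nat.pow_mod]; norm_num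
      omega
    · right
      obtain ⟨x, w, hx, hw⟩ := exists_real 3 (K := K) (m := 5) (by norm_num)
        (Or.inr (by rw [h9]; norm_num))
      have h5 := five x w hx hw hp5
      obtain ⟨c, hc⟩ := hω
      obtain ⟨t, ht⟩ := hq
      omega
  · refine Or.inr (Or.inl ⟨by simpa using hcard, ?_⟩)
    have h5c : Fintype.card K = 5 := by simpa using hcard
    obtain ⟨w, hw⟩ := conj_U_sq (k := (-1 : K)) (neg_ne_zero.2 one_ne_zero)
      (FiniteField.isSquare_neg_one_iff.2 (by rw [h5c]; norm_num))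
    have h5 := five (U 1) w (orderOf_eq_prime (by rw [← U_natCast, CharP.cast_eq_zero, U_zero])
      (U_ne_one one_ne_zero)) (by rw [hw, neg_one_mul, U_neg]) (Ne.symm hrp)
    obtain ⟨t, ht⟩ := hq
    omega
  · refine Or.inr (Or.inr (Or.inl ⟨by simpa using hcard, ?_⟩))
    have h20 : (2 : K) ≠ 0 := two_ne_zero_of_odd hK
    have hs : IsSquare (2 : K) := ⟨3, by
      have h7 : ((7 : ℕ) : K) = 0 := CharP.cast_eq_zero K 7
      push_cast at h7
      linear_combination -h7⟩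
    obtain ⟨w, hw⟩ := conj_U_sq h20 hs
    have hn : (7 : F) ≠ 0 := by exact_mod_cast (natCast_ne_zero p hpr : ((7 : ℕ) : F) ≠ 0)
    have h := seven C.sl hn (x := e.symm (U (1 : K))) (w := e.symm w)
      ((e.symm.orderOf_eq _).trans (orderOf_eq_prime (p := 7)
        (by rw [← U_natCast, CharP.cast_eq_zero, U_zero]) (U_ne_one one_ne_zero)))
      (by
        rw [← map_inv, ← map_mul, ← map_mul, hw 1, mul_one, ← map_zpow,
          show (2 : ℤ) = ((2 : ℕ) : ℤ) from rfl, _root_.zpow_natCast, ← U_natCast]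
        norm_num)
    rw [hF] at h
    have e3 : ((p ^ α : ℕ) : ℤ) * (p ^ α : ℕ) * (p ^ α : ℕ) = (((p ^ α) ^ 3 : ℕ) : ℤ) := by
      push_cast; ring
    rw [e3] at h
    omega

end PSL

section Alt

open Equiv

set_option maxRecDepth 40000 in
set_option maxHeartbeats 4000000 in
theorem alt_five : ∃ x w : alternatingGroup (Fin 7), x ^ 5 = 1 ∧ x ≠ 1 ∧ w * x * w⁻¹ = x ^ 2 := by
  refine ⟨⟨c[(0 : Fin 7), 1, 2, 3, 4], ?_⟩, ⟨c[(1 : Fin 7), 2, 4, 3] * swap 5 6, ?_⟩, ?_, ?_, ?_⟩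
  · rw [Perm.mem_alternatingGroup]; decide
  · rw [Perm.mem_alternatingGroup]; decide
  · decide
  · decide
  · decide

set_option maxRecDepth 40000 in
set_option maxHeartbeats 4000000 in
theorem alt_seven : ∃ x w : alternatingGroup (Fin 7), x ^ 7 = 1 ∧ x ≠ 1 ∧ w * x * w⁻¹ = x ^ 2 := by
  refine ⟨⟨c[(0 : Fin 7), 1, 2, 3, 4, 5, 6], ?_⟩, ⟨c[(1 : Fin 7), 2, 4] * c[(3 : Fin 7), 6, 5], ?_⟩,
    ?_, ?_, ?_⟩
  · rw [Perm.mem_alternatingGroup]; decide
  · rw [Perm.mem_alternatingGroup]; decide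
  · decide
  · decide
  · decide

include C hp hF in
theorem ident_altSeven (e7 : Sq G ≃* alternatingGroup (Fin 7)) : p = 5 ∧ Even α := by
  haveI := charP_F p α hF
  obtain ⟨x5, w5, h5, h5', h5w⟩ := alt_five
  obtain ⟨x7, w7, h7, h7', h7w⟩ := alt_seven
  have hp5 : p = 5 := by
    by_contra hne
    have hn : ((5 : ℕ) : F) ≠ 0 := natCast_ne_zero p fun h =>
      hne ((Nat.prime_dvd_prime_iff_eq Fact.out Nat.prime_five).1 h)
    haveI : Fact (Nat.Prime 5) := ⟨Nat.prime_five⟩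
    have h := sq_or_cube C.sl hn (x := e7.symm x5) (w := e7.symm w5) (k := 2)
      (by rw [e7.symm.orderOf_eq]; exact orderOf_eq_prime h5 h5')
      (by rw [← map_inv, ← map_mul, ← map_mul, h5w, map_pow]; rfl)
    norm_num at h
  refine ⟨hp5, ?_⟩
  subst hp5
  haveI : Fact (Nat.Prime 7) := ⟨by norm_num⟩
  have hn : (7 : F) ≠ 0 := by exact_mod_cast (natCast_ne_zero 5 (by norm_num) : ((7 : ℕ) : F) ≠ 0)
  have h := seven C.sl hn (x := e7.symm x7) (w := e7.symm w7)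
    (by rw [e7.symm.orderOf_eq]; exact orderOf_eq_prime h7 h7')
    (by rw [← map_inv, ← map_mul, ← map_mul, h7w, map_pow]; rfl)
  rw [hF] at h
  by_contra hodd
  obtain ⟨j, hj⟩ := Nat.not_even_iff_odd.1 hodd
  have h6 : (5 ^ α) ^ 3 % 7 = 6 := by
    rw [← pow_mul, hj, show (2 * j + 1) * 3 = 6 * j + 3 by ring, pow_add, pow_mul, Nat.mul_mod,
      Nat.pow_mod]
    norm_num
  have e3 : ((5 ^ α : ℕ) : ℤ) * (5 ^ α : ℕ) * (5 ^ α : ℕ) = (((5 ^ α) ^ 3 : ℕ) : ℤ) := by
    push_cast; ring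
  rw [e3] at h
  omega

end Alt

end Cfsg.Agent.Mitchell.Ident
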