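import Cfsg.Agent.Lib.Mitchell.Ident.Bridge
import Cfsg.Agent.Lib.Mitchell.Ident.Model

/-!
# The preimage of a root group of `PSL₂(K)` in a linear group

`W e` is the preimage in `G` of the upper unipotent subgroup.

* `comm_or_radical` : it is commutative or has no central element outside the scalars;
* `card_le_sq` : in the commutative case it has at most `n²` elements modulo scalars;
* `card_le_nine` : at exponent three it has at most nine elements modulo scalars;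
* `not_comm_nine`, `omega_nine`, `no_delta` : the case of nine elements.
-/

set_option autoImplicit false
set_option linter.unusedSectionVars false

namespace Cfsg.Agent.Mitchell.Ident

open Matrix
open Cfsg.Agent.PSL2 (SL2 PSL2)

universe u

variable {F : Type u} [Field F] {G : Subgroup (GL (Fin 3) F)}
variable {K : Type} [Field K]

/-- The preimage of the root group. -/
def W (e : Sq G ≃* PSL2 K) : Subgroup ↥G :=
  ((UHom (K := K)).range.map e.symm.toMonoidHom).comap (pr G)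

variable (e : Sq G ≃* PSL2 K)

theorem mem_W {w : ↥G} : w ∈ W e ↔ ∃ a, pr G w = e.symm (U a) := by
  rw [W, Subgroup.mem_comap, Subgroup.mem_map]
  constructor
  · rintro ⟨_, ⟨a, rfl⟩, ha⟩
    exact ⟨a.toAdd, ha.symm⟩
  · rintro ⟨a, ha⟩
    exact ⟨_, ⟨Multiplicative.ofAdd a, rfl⟩, ha.symm⟩

theorem exists_lift_U (a : K) : ∃ w ∈ W e, pr G w = e.symm (U a) := by
  obtain ⟨w, hw⟩ := QuotientGroup.mk'_surjective _ (e.symm (U a))
  exact ⟨w, (mem_W e).2 ⟨a, hw⟩, hw⟩

theorem card_map_W [Fintype K] : Nat.card ((W e).map (pr G)) = Fintype.card K := by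
  have h : (W e).map (pr G) = (UHom (K := K)).range.map e.symm.toMonoidHom :=
    Subgroup.map_comap_eq_self_of_surjective (QuotientGroup.mk'_surjective _) _
  rw [h, ← Nat.card_congr (Subgroup.equivMapOfInjective _ _ e.symm.injective).toEquiv,
    ← Nat.card_congr (MonoidHom.ofInjective (f := UHom (K := K)) fun a b h =>
      Multiplicative.toAdd.injective (U_injective h)).toEquiv,
    Nat.card_congr Multiplicative.toAdd, Nat.card_eq_fintype_card]

theorem pow_mem_scalars {n : ℕ} (hn : (n : K) = 0) {w : ↥G} (hw : w ∈ W e) :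
    (w : GL (Fin 3) F) ^ n ∈ Cfsg.Geo.scalars (Fin 3) F := by
  obtain ⟨a, ha⟩ := (mem_W e).1 hw
  have h : pr G (w ^ n) = 1 := by
    rw [map_pow, ha, ← map_pow, ← U_nsmul, nsmul_eq_mul, hn, zero_mul, U_zero, map_one]
  simpa using pr_eq_one.1 h

/-- A square of `K` acts on `W` by conjugation. -/
theorem exists_conj_W {t : K} (ht : t ≠ 0) :
    ∃ h : ↥G, ∀ w : ↥G, ∀ a, pr G w = e.symm (U a) → pr G (h * w * h⁻¹) = e.symm (U (t * t * a)) := by
  obtain ⟨x, hx⟩ := conj_U ht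
  obtain ⟨h, hh⟩ := QuotientGroup.mk'_surjective _ (e.symm x)
  refine ⟨h, fun w a hw => ?_⟩
  rw [map_mul, map_mul, map_inv, hw, hh, ← map_inv, ← map_mul, ← map_mul, hx]

theorem comm_pr {v w : ↥G} (hv : v ∈ W e) (hw : w ∈ W e) :
    pr G v * pr G w = pr G w * pr G v := by
  obtain ⟨a, ha⟩ := (mem_W e).1 hv
  obtain ⟨b, hb⟩ := (mem_W e).1 hw
  rw [ha, hb, ← map_mul, ← map_mul, U_comm]

theorem comm_or_radical [Fintype K] (hK : Odd (Fintype.card K)) :
    (∀ a ∈ W e, ∀ b ∈ W e, a * b = b * a) ∨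
      ∀ v ∈ W e, pr G v ≠ 1 → ∃ b ∈ W e, v * b ≠ b * v := by
  by_contra hcon
  push Not at hcon
  obtain ⟨⟨a₀, ha₀, b₀, hb₀, hne⟩, v, hv, hv1, hvc⟩ := hcon
  let Z : Subgroup ↥G := W e ⊓ Subgroup.centralizer ((W e : Subgroup ↥G) : Set ↥G)
  let R : AddSubgroup K :=
    Subgroup.toAddSubgroup' (((Z.map (pr G)).map e.toMonoidHom).comap (UHom (K := K)))
  have hR : ∀ x, x ∈ R ↔ ∃ z ∈ Z, pr G z = e.symm (U x) := fun x => by
    show UHom (Multiplicative.ofAdd x) ∈ (Z.map (pr G)).map e.toMonoidHom ↔ _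
    rw [Subgroup.mem_map]
    constructor
    · rintro ⟨_, ⟨z, hz, rfl⟩, hzx⟩
      refine ⟨z, hz, ?_⟩
      rw [show U x = e (pr G z) from hzx.symm, MulEquiv.symm_apply_apply]
    · rintro ⟨z, hz, hzx⟩
      refine ⟨pr G z, ⟨z, hz, rfl⟩, ?_⟩
      show e (pr G z) = U x
      rw [hzx, MulEquiv.apply_symm_apply]
  obtain ⟨a, ha⟩ := (mem_W e).1 hv
  have ha0 : a ≠ 0 := fun h => hv1 (by rw [ha, h, U_zero, map_one])
  have htop : ∀ z, z ∈ R := closed_eq_top (two_ne_zero_of_odd hK) R (fun t ht x hx => by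
    obtain ⟨z, ⟨hzW, hzC⟩, hzx⟩ := (hR x).1 hx
    obtain ⟨h, hh⟩ := exists_conj_W e ht
    refine (hR _).2 ⟨h * z * h⁻¹, ⟨(mem_W e).2 ⟨_, hh z x hzx⟩, ?_⟩, hh z x hzx⟩
    show h * z * h⁻¹ ∈ Subgroup.centralizer ((W e : Subgroup ↥G) : Set ↥G)
    rw [Subgroup.mem_centralizer_iff]
    intro b hb
    obtain ⟨y, hy⟩ := (mem_W e).1 hb
    have hb' : h⁻¹ * b * h ∈ W e := by
      obtain ⟨b', hb'W, hb'⟩ := exists_lift_U e (t⁻¹ * t⁻¹ * y)
      refine (mem_W e).2 ⟨t⁻¹ * t⁻¹ * y, ?_⟩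
      have h1 := hh b' _ hb'
      rw [show t * t * (t⁻¹ * t⁻¹ * y) = y by field_simp, ← hy, map_mul, map_mul, map_inv] at h1
      rw [map_mul, map_mul, map_inv, ← hb', ← h1]; group
    have hc := Subgroup.mem_centralizer_iff.1 hzC _ hb'
    calc b * (h * z * h⁻¹) = h * (h⁻¹ * b * h * z) * h⁻¹ := by group
      _ = h * (z * (h⁻¹ * b * h)) * h⁻¹ := by rw [hc]
      _ = h * z * h⁻¹ * b := by group)
    ((hR a).2 ⟨v, ⟨hv, Subgroup.mem_centralizer_iff.2 fun b hb => (hvc b hb).symm⟩, ha⟩) ha0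
  obtain ⟨x, hx⟩ := (mem_W e).1 ha₀
  obtain ⟨z, ⟨-, hzC⟩, hzx⟩ := (hR x).1 (htop x)
  have hs := pr_eq.1 (hx.trans hzx.symm)
  refine hne (Subtype.ext ?_)
  rw [Subgroup.coe_mul, Subgroup.coe_mul]
  calc (a₀ : GL (Fin 3) F) * b₀ = (a₀ : GL (Fin 3) F) * (z : GL (Fin 3) F)⁻¹ * (z * b₀) := by group
    _ = (a₀ : GL (Fin 3) F) * (z : GL (Fin 3) F)⁻¹ * (b₀ * z) := by
      rw [show (z : GL (Fin 3) F) * b₀ = b₀ * z from
        congrArg Subtype.val (Subgroup.mem_centralizer_iff.1 hzC b₀ hb₀).symm]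
    _ = b₀ * ((a₀ : GL (Fin 3) F) * (z : GL (Fin 3) F)⁻¹) * z := by
      rw [← mul_assoc, scalar_central hs]
    _ = b₀ * a₀ := by group

theorem card_le_sq [Fintype K] (hsl : G ≤ Cfsg.Geo.specialLinear (Fin 3) F) {n : ℕ} (hn : (n : F) ≠ 0) (hnK : (n : K) = 0)
    (hc : ∀ a ∈ W e, ∀ b ∈ W e, a * b = b * a) : Fintype.card K ≤ n ^ 2 := by
  rw [← card_map_W e]
  exact (card_map_le_aux hn hsl _ hc fun w hw => pow_mem_scalars e hnK hw).1

theorem comm_W [Fintype K] (hsl : G ≤ Cfsg.Geo.specialLinear (Fin 3) F) {n : ℕ} (hn : Nat.Coprime n 3) (hnK : (n : K) = 0) :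
    ∀ a ∈ W e, ∀ b ∈ W e, a * b = b * a := fun _ ha _ hb =>
  comm_of_coprime hsl hn (comm_pr e ha hb) (pow_mem_scalars e hnK hb)

theorem trace_eq_zero (hsl : G ≤ Cfsg.Geo.specialLinear (Fin 3) F) {v b : ↥G} (hv : v ∈ W e) (hb : b ∈ W e) (h : v * b ≠ b * v) :
    ((v : GL (Fin 3) F) : Matrix (Fin 3) (Fin 3) F).trace = 0 := by
  obtain ⟨hs, -⟩ := commutator_facts hsl (comm_pr e hb hv)
  obtain ⟨c, -, hc, -⟩ := app_of_mem_scalars hs
  have e1 : (b : GL (Fin 3) F) * v * (b : GL (Fin 3) F)⁻¹ =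
      ((b * v * b⁻¹ * v⁻¹ : ↥G) : GL (Fin 3) F) * v := by
    simp [mul_assoc]
  have h1 := congrArg (fun g : GL (Fin 3) F => (g : Matrix (Fin 3) (Fin 3) F).trace) e1
  simp only [Units.val_mul] at h1
  rw [Matrix.trace_units_conj, hc, Matrix.smul_mul, Matrix.one_mul, Matrix.trace_smul,
    smul_eq_mul] at h1
  by_contra h0
  have hc1 : c = 1 := mul_right_cancel₀ h0 (h1.symm.trans (one_mul _).symm)
  refine h ?_
  have h2 : b * v * b⁻¹ * v⁻¹ = 1 := Subtype.ext (Units.ext (by rw [hc, hc1, one_smul]; rfl))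
  rw [mul_inv_eq_one, mul_inv_eq_iff_eq_mul] at h2
  exact h2.symm

theorem card_le_nine [Fintype K] (e : Sq G ≃* PSL2 K) (hsl : G ≤ Cfsg.Geo.specialLinear (Fin 3) F) (hK : Odd (Fintype.card K)) (h3 : (3 : F) ≠ 0)
    (h3K : (3 : K) = 0) : Fintype.card K ≤ 9 := by
  classical
  rcases comm_or_radical e hK with hc | hc
  · simpa using card_le_sq e hsl (n := 3) (by exact_mod_cast h3) (by exact_mod_cast h3K) hc
  choose f hf hfx using exists_lift_U e
  let M : K → Matrix (Fin 3) (Fin 3) F := fun a => ((f a : GL (Fin 3) F) : Matrix (Fin 3) (Fin 3) F)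
  have key : ∀ a b, a ≠ b →
      (M a * (((f b : GL (Fin 3) F)⁻¹ : GL (Fin 3) F) : Matrix (Fin 3) (Fin 3) F)).trace = 0 := by
    intro a b hab
    have hne : pr G (f a * (f b)⁻¹) ≠ 1 := by
      rw [map_mul, map_inv, hfx, hfx, Ne, mul_inv_eq_one]
      exact fun h => hab (U_injective (e.symm.injective h))
    have hm := mul_mem (hf a) (inv_mem (hf b))
    obtain ⟨y, hy, hy'⟩ := hc _ hm hne
    simpa [M] using trace_eq_zero e hsl hm hy hy'
  have hli : LinearIndependent F M := by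
    rw [Fintype.linearIndependent_iff]
    intro g hg b
    have h := congrArg (fun X : Matrix (Fin 3) (Fin 3) F =>
      (X * (((f b : GL (Fin 3) F)⁻¹ : GL (Fin 3) F) : Matrix (Fin 3) (Fin 3) F)).trace) hg
    simp only [Finset.sum_mul, Matrix.trace_sum, Matrix.smul_mul, Matrix.trace_smul,
      Matrix.zero_mul, Matrix.trace_zero] at h
    rw [Finset.sum_eq_single b (fun a _ hab => by rw [key a b hab, smul_zero])
      (fun hb => absurd (Finset.mem_univ b) hb)] at h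
    have hone : M b * (((f b : GL (Fin 3) F)⁻¹ : GL (Fin 3) F) : Matrix (Fin 3) (Fin 3) F) = 1 :=
      Units.mul_inv _
    rw [hone, Matrix.trace_one, Fintype.card_fin, smul_eq_mul, mul_eq_zero] at h
    exact h.resolve_right (by exact_mod_cast h3)
  have := hli.fintype_card_le_finrank
  rw [Module.finrank_matrix, Module.finrank_self, Fintype.card_fin] at this
  simpa using this

theorem exists_sq_neg_one [Fintype K] (h9 : Fintype.card K = 9) : ∃ t : K, t ≠ 0 ∧ t * t = -1 := by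
  obtain ⟨t, ht⟩ := (FiniteField.isSquare_neg_one_iff (F := K)).2 (by rw [h9]; norm_num)
  exact ⟨t, fun h => by rw [h, mul_zero] at ht; exact one_ne_zero (neg_eq_zero.1 ht), ht.symm⟩

theorem not_comm_nine [Fintype F] [Fintype K] (hsl : G ≤ Cfsg.Geo.specialLinear (Fin 3) F) (h3 : (3 : F) ≠ 0) (h3K : (3 : K) = 0)
    (h9 : Fintype.card K = 9) : ¬ ∀ a ∈ W e, ∀ b ∈ W e, a * b = b * a := by
  intro hc
  have h := (card_map_le_aux (n := 3) (by exact_mod_cast h3) hsl _ hc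
    fun w hw => pow_mem_scalars e (by exact_mod_cast h3K) hw).2 fun w hw hns Q d hd => by
      obtain ⟨a, ha⟩ := (mem_W e).1 hw
      obtain ⟨t, ht0, ht⟩ := exists_sq_neg_one h9
      obtain ⟨x, hx⟩ := exists_conj_W e ht0
      have h1 := hx w a ha
      rw [ht, neg_one_mul, U_neg, map_inv, ← ha, map_mul, map_mul, map_inv] at h1
      obtain ⟨σ, hσ⟩ := hd.rel (scalar_rel (g := w) (a := x) (k := -1) (by
        rw [_root_.zpow_neg_one]; exact h1))
      have hord : orderOf (pr G w) = 3 := by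
        haveI : Fact (Nat.Prime 3) := ⟨Nat.prime_three⟩
        refine orderOf_eq_prime ?_ (fun h => hns (pr_eq_one.1 h))
        rw [← map_pow, pr_eq_one]
        simpa using pow_mem_scalars e (n := 3) (by exact_mod_cast h3K) hw
      exact hσ.injective (n := 3) (fun m => by
        rw [← hd.scalar_iff, ← pr_zpow_eq_one, ← orderOf_dvd_iff_zpow_eq_one, hord]) le_rfl
  rw [card_map_W e, h9] at h
  norm_num at h

theorem omega_nine [Fintype F] [Fintype K] (e : Sq G ≃* PSL2 K) (hsl : G ≤ Cfsg.Geo.specialLinear (Fin 3) F) (h3 : (3 : F) ≠ 0) (h3K : (3 : K) = 0)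
    (h9 : Fintype.card K = 9) : 3 ∣ Fintype.card F - 1 := by
  classical
  have h := not_comm_nine e hsl h3 h3K h9
  push Not at h
  obtain ⟨a, ha, b, hb, hne⟩ := h
  obtain ⟨hs, hs3⟩ := commutator_facts hsl (comm_pr e ha hb)
  obtain ⟨c, hc0, hc, -⟩ := app_of_mem_scalars hs
  have hc1 : c ≠ 1 := fun h1 => hne (by
    have h2 : a * b * a⁻¹ * b⁻¹ = 1 := Subtype.ext (Units.ext (by rw [hc, h1, one_smul]; rfl))
    rwa [mul_inv_eq_one, mul_inv_eq_iff_eq_mul] at h2)
  have hc3 : c ^ 3 = 1 := by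
    have h := congrArg (fun g : GL (Fin 3) F => (g : Matrix (Fin 3) (Fin 3) F) 0 0) hs3
    simp only [Units.val_pow_eq_pow_val, hc, smul_pow, one_pow] at h
    simpa using h
  haveI : Fact (Nat.Prime 3) := ⟨Nat.prime_three⟩
  have hord : orderOf (Units.mk0 c hc0) = 3 :=
    orderOf_eq_prime (Units.ext (by simpa using hc3)) fun h => hc1 (by simpa using congrArg Units.val h)
  rw [← Fintype.card_units, ← hord]
  exact orderOf_dvd_card

/-- No element normalising `W` induces on it a map whose determinant is `-1`. -/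
theorem no_delta [Fintype F] [Fintype K] (hsl : G ≤ Cfsg.Geo.specialLinear (Fin 3) F) (hK : Odd (Fintype.card K)) (h3 : (3 : F) ≠ 0)
    (h3K : (3 : K) = 0) (h9 : Fintype.card K = 9) {g : K} (hg : g * g = g + 1)
    {h : GL (Fin 3) F}
    (hh : ∀ v ∈ W e, ∀ a, pr G v = e.symm (U a) → ∃ v' ∈ W e, pr G v' = e.symm (U (g * a)) ∧
      h * v * h⁻¹ * (v' : GL (Fin 3) F)⁻¹ ∈ Cfsg.Geo.scalars (Fin 3) F) : False := by
  classical
  obtain ⟨x, hx, hxa⟩ := exists_lift_U e (1 : K)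
  obtain ⟨y, hy, hya, hxy⟩ := hh x hx 1 hxa
  rw [mul_one] at hya
  obtain ⟨z, hz, hza, hyz⟩ := hh y hy g hya
  have hzxy : pr G z = pr G (y * x) := by rw [hza, map_mul, hya, hxa, ← map_mul, ← U_add, hg]
  obtain ⟨hs, h3'⟩ := commutator_facts hsl (comm_pr e hx hy)
  -- the commutator `c` is fixed by `h`
  obtain ⟨c, hcdef⟩ : ∃ c : GL (Fin 3) F, c = (x : GL (Fin 3) F) * y * (x : GL (Fin 3) F)⁻¹ *
      (y : GL (Fin 3) F)⁻¹ := ⟨_, rfl⟩
  have hc : c = ((x * y * x⁻¹ * y⁻¹ : ↥G) : GL (Fin 3) F) := by simp [hcdef]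
  rw [← hc] at hs h3'
  obtain ⟨s, hs1, he1⟩ : ∃ s ∈ Cfsg.Geo.scalars (Fin 3) F, h * x * h⁻¹ = s * y :=
    ⟨_, hxy, (inv_mul_cancel_right _ _).symm⟩
  obtain ⟨s', hs2, he2⟩ : ∃ s' ∈ Cfsg.Geo.scalars (Fin 3) F, h * y * h⁻¹ = s' * (y * x) := by
    refine ⟨h * y * h⁻¹ * (z : GL (Fin 3) F)⁻¹ *
      ((z : GL (Fin 3) F) * ((y * x : ↥G) : GL (Fin 3) F)⁻¹), mul_mem hyz (pr_eq.1 hzxy), ?_⟩
    simp [mul_assoc]
  have hfix : c = (s * y) * (s' * (y * x)) * (s * (y : GL (Fin 3) F))⁻¹ *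
      (s' * ((y : GL (Fin 3) F) * x))⁻¹ := by
    rw [← he1, ← he2]
    calc c = h * c * h⁻¹ := by rw [← scalar_central hs, mul_inv_cancel_right]
      _ = _ := by rw [hcdef]; group
  have hexp : (s * y) * (s' * (y * x)) * (s * (y : GL (Fin 3) F))⁻¹ *
      (s' * ((y : GL (Fin 3) F) * x))⁻¹ = (y : GL (Fin 3) F) * c⁻¹ * (y : GL (Fin 3) F)⁻¹ := by
    have c1 : Commute s (y : GL (Fin 3) F) := scalar_central hs1 _
    have c2 : Commute s s' := scalar_central hs1 _
    have c3 : ∀ a, Commute s' a := fun a => scalar_central hs2 a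
    have c4 : ∀ a, Commute s a := fun a => scalar_central hs1 a
    rw [hcdef]
    calc (s * y) * (s' * (y * x)) * (s * (y : GL (Fin 3) F))⁻¹ *
          (s' * ((y : GL (Fin 3) F) * x))⁻¹
        = s * (s' * (y * y * x)) * ((y : GL (Fin 3) F)⁻¹ * s⁻¹) *
            (((x : GL (Fin 3) F)⁻¹ * (y : GL (Fin 3) F)⁻¹) * s'⁻¹) := by
          rw [_root_.mul_inv_rev, _root_.mul_inv_rev, _root_.mul_inv_rev,
            mul_assoc s (y : GL (Fin 3) F), ← mul_assoc (y : GL (Fin 3) F) s',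
            ← (c3 (y : GL (Fin 3) F)).eq]
          group
      _ = s * (s' * ((y * y * x) * (y : GL (Fin 3) F)⁻¹ * s⁻¹ *
            ((x : GL (Fin 3) F)⁻¹ * (y : GL (Fin 3) F)⁻¹))) * s'⁻¹ := by group
      _ = s * ((y * y * x) * (y : GL (Fin 3) F)⁻¹ * s⁻¹ *
            ((x : GL (Fin 3) F)⁻¹ * (y : GL (Fin 3) F)⁻¹) * s') * s'⁻¹ := by rw [(c3 _).eq]
      _ = ((y * y * x) * (y : GL (Fin 3) F)⁻¹ * s⁻¹ *
            ((x : GL (Fin 3) F)⁻¹ * (y : GL (Fin 3) F)⁻¹)) * s := by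
          rw [mul_assoc, mul_inv_cancel_right, (c4 _).eq]
      _ = (y * y * x) * (y : GL (Fin 3) F)⁻¹ *
            ((x : GL (Fin 3) F)⁻¹ * (y : GL (Fin 3) F)⁻¹) := by
          rw [mul_assoc _ s⁻¹, ((c4 _).inv_left).eq, ← mul_assoc, inv_mul_cancel_right]
      _ = _ := by group
  have hcc : c = c⁻¹ := by
    rw [hexp, ← scalar_central (inv_mem hs) (y : GL (Fin 3) F), mul_inv_cancel_right] at hfix
    exact hfix
  have hc1 : c = 1 := by
    have h2 : c * c = 1 := mul_eq_one_iff_eq_inv.2 hcc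
    rwa [pow_succ, pow_two, h2, one_mul] at h3'
  have hcomm : x * y = y * x := by
    rw [hcdef, mul_inv_eq_one, mul_inv_eq_iff_eq_mul] at hc1
    exact Subtype.ext hc1
  -- hence `x` is central in `W`, which is absurd
  rcases comm_or_radical e hK with hab | hrad
  · exact not_comm_nine e hsl h3 h3K h9 hab
  have hx1 : pr G x ≠ 1 := by
    rw [hxa, Ne, ← map_one e.symm]
    exact fun h => U_ne_one one_ne_zero (e.symm.injective h)
  obtain ⟨b, hb, hbne⟩ := hrad x hx hx1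
  let A : AddSubgroup K := Subgroup.toAddSubgroup'
    ((((W e ⊓ Subgroup.centralizer {x}).map (pr G)).map e.toMonoidHom).comap (UHom (K := K)))
  have hA : ∀ a, a ∈ A ↔ ∃ v ∈ W e, v * x = x * v ∧ pr G v = e.symm (U a) := fun a => by
    show UHom (Multiplicative.ofAdd a) ∈
      ((W e ⊓ Subgroup.centralizer {x}).map (pr G)).map e.toMonoidHom ↔ _
    rw [Subgroup.mem_map]
    constructor
    · rintro ⟨_, ⟨v, ⟨hvW, hvC⟩, rfl⟩, hva⟩
      refine ⟨v, hvW, Subgroup.mem_centralizer_singleton_iff.1 hvC, ?_⟩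
      rw [show U a = e (pr G v) from hva.symm, MulEquiv.symm_apply_apply]
    · rintro ⟨v, hvW, hvC, hva⟩
      refine ⟨pr G v, ⟨v, ⟨hvW, Subgroup.mem_centralizer_singleton_iff.2 hvC⟩, rfl⟩, ?_⟩
      show e (pr G v) = U a
      rw [hva, MulEquiv.apply_symm_apply]
  have hA1 : (1 : K) ∈ A := (hA 1).2 ⟨x, hx, rfl, hxa⟩
  have hAg : g ∈ A := (hA g).2 ⟨y, hy, hcomm.symm, hya⟩
  have h4 : 4 ≤ Nat.card A := by
    have hne : ((1 : K) ≠ 0) ∧ ((-1 : K) ≠ 1) ∧ g ≠ 0 ∧ g ≠ 1 ∧ g ≠ -1 := by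
      have h20 : (2 : K) ≠ 0 := two_ne_zero_of_odd hK
      refine ⟨one_ne_zero, fun h => h20 (by linear_combination -h), ?_, ?_, ?_⟩ <;> rintro rfl
      · exact one_ne_zero (show (1 : K) = 0 by linear_combination -hg)
      · exact one_ne_zero (show (1 : K) = 0 by linear_combination -hg)
      · exact one_ne_zero (show (1 : K) = 0 by linear_combination hg)
    have hsub : ({0, 1, -1, g} : Finset K) ⊆ (Set.toFinite (A : Set K)).toFinset := by
      intro a ha
      rw [Set.Finite.mem_toFinset, SetLike.mem_coe]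
      simp only [Finset.mem_insert, Finset.mem_singleton] at ha
      rcases ha with rfl | rfl | rfl | rfl
      exacts [A.zero_mem, hA1, A.neg_mem hA1, hAg]
    have h := Finset.card_le_card hsub
    obtain ⟨n1, n2, n3, n4, n5⟩ := hne
    rw [Finset.card_insert_of_notMem (by simp [n1.symm, n3.symm, (neg_ne_zero.2 n1).symm]),
      Finset.card_insert_of_notMem (by simp [n2.symm, n4.symm]),
      Finset.card_insert_of_notMem (by simp [n5.symm]), Finset.card_singleton] at h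
    rw [← SetLike.coe_sort_coe, Nat.card_coe_set_eq, Set.ncard_eq_toFinset_card _ (Set.toFinite _)]
    exact h
  have hdvd := AddSubgroup.card_addSubgroup_dvd_card A
  have hle := Nat.le_of_dvd Nat.card_pos hdvd
  rw [Nat.card_eq_fintype_card (α := K), h9] at hdvd hle
  have hcard : Nat.card A = 9 := by
    interval_cases hh : Nat.card A <;> omega
  have htop : A = ⊤ := AddSubgroup.eq_top_of_card_eq A (by rw [hcard, Nat.card_eq_fintype_card, h9])
  obtain ⟨a, ha⟩ := (mem_W e).1 hb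
  obtain ⟨v, -, hvC, hva⟩ := (hA a).1 (htop ▸ AddSubgroup.mem_top a)
  have hs' := pr_eq.1 (ha.trans hva.symm)
  refine hbne (Subtype.ext ?_)
  rw [Subgroup.coe_mul, Subgroup.coe_mul]
  calc (x : GL (Fin 3) F) * b = (x : GL (Fin 3) F) * ((b : GL (Fin 3) F) * (v : GL (Fin 3) F)⁻¹) * v := by
        group
    _ = (b : GL (Fin 3) F) * (v : GL (Fin 3) F)⁻¹ * (x * v) := by
        rw [← scalar_central hs', mul_assoc]
    _ = (b : GL (Fin 3) F) * (v : GL (Fin 3) F)⁻¹ * (v * x) := by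
        rw [show (x : GL (Fin 3) F) * v = v * x from congrArg Subtype.val hvC.symm]
    _ = b * x := by group

end Cfsg.Agent.Mitchell.Ident
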